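import Cfsg.Agent.Lib.Geometry.Pron.OverSL
import Cfsg.Agent.Lib.Involutions.PSUFusionSimple

/-!
The Bruhat decomposition of the unitary group in antidiagonal coordinates, in even dimension.
-/

set_option autoImplicit false

namespace CfsgLib.Geometry.Pron

open Matrix CfsgLib.KnownB.PSLAut CfsgLib.Involutions.PSLUnip CfsgLib.Involutions.UAnti CfsgLib.Classical
  CfsgLib.Classical.Unitary

variable {n : ℕ} {F : Type*} [Field F] {σ : F →+* F} {q : ℕ}

local notation "SLn" => Matrix.SpecialLinearGroup (Fin n) F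
local notation "Mn" => Matrix (Fin n) (Fin n) F
local notation "Vn" => (Fin n → F)

theorem mulVec_mul (a b : SLn) (v : Vn) : ((a * b : SLn) : Mn) *ᵥ v = (a : Mn) *ᵥ ((b : Mn) *ᵥ v) := by
  rw [Matrix.SpecialLinearGroup.coe_mul, Matrix.mulVec_mulVec]

theorem inv_mulVec {a : SLn} {v w : Vn} (h : (a : Mn) *ᵥ v = w) : ((a⁻¹ : SLn) : Mn) *ᵥ w = v := by
  rw [← h, ← mulVec_mul, inv_mul_cancel, Matrix.SpecialLinearGroup.coe_one, Matrix.one_mulVec]

theorem mulVec_inj {a : SLn} {v w : Vn} (h : (a : Mn) *ᵥ v = (a : Mn) *ᵥ w) : v = w := by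
  rw [← inv_mulVec (a := a) (v := v) rfl, h, inv_mulVec (a := a) (v := w) rfl]

/-- an isotropic vector is moved to the line of its last basis vector by unitriangular isometries fixing
the basis vectors outside its support -/
theorem clear_vec (h : UFrob σ q) (hne : ∀ i : Fin n, i ≠ Fin.rev i) (v : Vn) (hiso : ab σ v v = 0)
    (k : Fin n) (hk : v k ≠ 0) (hmax : ∀ i, k < i → v i = 0) :
    ∃ u ∈ U n F ⊓ H n σ, (u : Mn) *ᵥ v = Pi.single k (v k) ∧
      ∀ w : Vn, w k = 0 → (∀ i, v i ≠ 0 → i ≠ k → w (Fin.rev i) = 0) → (u : Mn) *ᵥ w = w := by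
  classical
  suffices key : ∀ (r : ℕ) (v : Vn), ab σ v v = 0 → v k ≠ 0 → (∀ i, k < i → v i = 0) →
      (Finset.univ.filter fun i => v i ≠ 0 ∧ i ≠ k ∧ i ≠ Fin.rev k).card ≤ r →
      ∃ u ∈ U n F ⊓ H n σ, (u : Mn) *ᵥ v = Pi.single k (v k) ∧
        ∀ w : Vn, w k = 0 → (∀ i, v i ≠ 0 → i ≠ k → w (Fin.rev i) = 0) → (u : Mn) *ᵥ w = w from
    key _ v hiso hk hmax le_rfl
  intro r
  induction r with
  | zero =>
    intro v hiso hk hmax hcard
    rw [Nat.le_zero, Finset.card_eq_zero, Finset.filter_eq_empty_iff] at hcard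
    have hsupp : ∀ i, i ≠ k → i ≠ Fin.rev k → v i = 0 := fun i h1 h2 => by
      by_contra h0
      exact hcard (Finset.mem_univ i) ⟨h0, h1, h2⟩
    by_cases hrk : v (Fin.rev k) = 0
    · refine ⟨1, one_mem _, ?_, fun w _ _ => by simp⟩
      funext i
      by_cases hik : i = k
      · subst hik; simp
      · by_cases hir : i = Fin.rev k
        · subst hir; simp [hrk, (hne k).symm]
        · simp [hsupp i hik hir, hik]
    have hlt : Fin.rev k < k := lt_of_le_of_ne (not_lt.1 fun hh => hrk (hmax _ hh)) (hne k).symm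
    have hp : Fin.rev k ≠ Fin.rev (Fin.rev k) := by rw [Fin.rev_rev]; exact (hne k).symm
    set c := -v (Fin.rev k) / v k with hc
    have hsum : v k * σ (v (Fin.rev k)) + v (Fin.rev k) * σ (v k) = 0 := by
      rw [← hiso, ab, Finset.sum_eq_add k (Fin.rev k) (hne k) ?_ (by simp) (by simp), Fin.rev_rev]
      intro i _ hi
      rw [hsupp i hi.1 hi.2, zero_mul]
    have hcs : c + σ c = 0 := by
      have : σ (v k) ≠ 0 := (map_ne_zero σ).2 hk
      rw [hc, map_div₀, map_neg]
      field_simp
      linear_combination -hsum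
    refine ⟨lg hp c, ⟨transvection_mem_U (by rw [Fin.rev_rev]; exact hlt) c, lg_mem h hp hcs⟩, ?_, ?_⟩
    · rw [mulVec_lg, Fin.rev_rev]
      funext i
      by_cases hik : i = k
      · subst hik; simp [(hne i)]
      · by_cases hir : i = Fin.rev k
        · subst hir
          simp [hik, hc]
          field_simp
          ring
        · simp [hsupp i hik hir, hik, hir]
    · intro w hw _
      rw [mulVec_lg, Fin.rev_rev, hw, mul_zero, Pi.single_zero, add_zero]
  | succ r ih =>
    intro v hiso hk hmax hcard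
    by_cases hz : (Finset.univ.filter fun i => v i ≠ 0 ∧ i ≠ k ∧ i ≠ Fin.rev k) = ∅
    · exact ih v hiso hk hmax (by simp [hz])
    obtain ⟨a, ha⟩ := Finset.nonempty_iff_ne_empty.2 hz
    obtain ⟨hva, hak, har⟩ : v a ≠ 0 ∧ a ≠ k ∧ a ≠ Fin.rev k := (Finset.mem_filter.1 ha).2
    have halt : a < k := lt_of_le_of_ne (not_lt.1 fun hh => hva (hmax _ hh)) hak
    set t := -v a / v k with ht
    set v' : Vn := (sh hak σ t : Mn) *ᵥ v with hv'
    have hval : v' = v + Pi.single (Fin.rev k) (-σ t * v (Fin.rev a)) + Pi.single a (t * v k) :=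
      mulVec_sh hak (hne k) t v
    have hra : a ≠ Fin.rev a := hne a
    have hv'k : v' k = v k := by simp [hval, (hne k), hak.symm]
    have hv'a : v' a = 0 := by
      simp [hval, har, ht]
      field_simp
      ring
    have hv'o : ∀ i, i ≠ a → i ≠ Fin.rev k → v' i = v i := fun i h1 h2 => by simp [hval, h1, h2]
    have hv'max : ∀ i, k < i → v' i = 0 := by
      intro i hi
      have hia : i ≠ a := (halt.trans hi).ne'
      by_cases hir : i = Fin.rev k
      · subst hir
        have : v (Fin.rev a) = 0 := hmax _ (hi.trans (Fin.rev_lt_rev.2 halt))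
        simp [hval, hia, this, hmax _ hi]
      · rw [hv'o i hia hir, hmax i hi]
    have hcard' : (Finset.univ.filter fun i => v' i ≠ 0 ∧ i ≠ k ∧ i ≠ Fin.rev k).card ≤ r := by
      have hss : (Finset.univ.filter fun i => v' i ≠ 0 ∧ i ≠ k ∧ i ≠ Fin.rev k) ⊆
          (Finset.univ.filter fun i => v i ≠ 0 ∧ i ≠ k ∧ i ≠ Fin.rev k).erase a := by
        intro i hi
        simp only [Finset.mem_filter, Finset.mem_univ, true_and, Finset.mem_erase] at hi ⊢
        have hia : i ≠ a := fun e => hi.1 (e ▸ hv'a)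
        exact ⟨hia, by rw [← hv'o i hia hi.2.2]; exact hi.1, hi.2⟩
      have := Finset.card_le_card hss
      rw [Finset.card_erase_of_mem ha] at this
      omega
    obtain ⟨u, hu, huv, hfix⟩ := ih v' (by rw [hv', sh_mem h hak (hne a) (hne k) t v v, hiso])
      (by rwa [hv'k]) hv'max hcard'
    refine ⟨u * sh hak σ t, mul_mem hu ⟨?_, sh_mem h hak (hne a) (hne k) t⟩, ?_, ?_⟩
    · exact (U n F).mul_mem (transvection_mem_U halt t) (transvection_mem_U (Fin.rev_lt_rev.2 halt) _)
    · rw [mulVec_mul, ← hv', huv, hv'k]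
    · intro w hw hw'
      have hwe : (sh hak σ t : Mn) *ᵥ w = w := by
        rw [mulVec_sh hak (hne k), hw, hw' a hva hak]
        simp
      rw [mulVec_mul, hwe]
      refine hfix w hw fun i hi hik => ?_
      by_cases hir : i = Fin.rev k
      · subst hir; rwa [Fin.rev_rev]
      · exact hw' i (by rw [← hv'o i (fun e => hi (e ▸ hv'a)) hir]; exact hi) hik

/-- columns with a single entry -/
def Settled (g : Mn) (j : Fin n) : Prop := ∃ i, ∀ l, l ≠ i → g l j = 0

theorem col_eq (g : Mn) (j : Fin n) : g *ᵥ Pi.single j 1 = fun l => g l j := by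
  funext l; simp

theorem col_mem_H {g : SLn} (hg : g ∈ H n σ) (i j : Fin n) :
    ab σ (fun l => (g : Mn) l i) (fun l => (g : Mn) l j) = if i = Fin.rev j then 1 else 0 := by
  have := hg (Pi.single i 1) (Pi.single j 1)
  rw [col_eq, col_eq, ab_single_right] at this
  rw [this, map_one, mul_one, Pi.single_apply]
  by_cases hij : i = Fin.rev j
  · subst hij; simp
  · rw [if_neg (Ne.symm hij), if_neg hij]

/-- the decomposition with unitriangular isometries -/
theorem bruhat_SU (h : UFrob σ q) (hne : ∀ i : Fin n, i ≠ Fin.rev i) (g : SLn) (hg : g ∈ H n σ) :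
    ∃ (u u' m : SLn) (π : Equiv.Perm (Fin n)), u ∈ U n F ⊓ H n σ ∧ u' ∈ U n F ⊓ H n σ ∧
      IsMono (m : Mn) π ∧ g = u * m * u' := by
  classical
  suffices key : ∀ (r : ℕ) (g : SLn), g ∈ H n σ →
      ∀ S : Finset (Fin n), n ≤ S.card + r → (∀ j ∈ S, Fin.rev j ∈ S ∧ Settled (g : Mn) j) →
      ∃ u ∈ U n F ⊓ H n σ, ∃ u' ∈ U n F ⊓ H n σ, ∀ j, Settled ((u * g * u' : SLn) : Mn) j by
    obtain ⟨u, hu, u', hu', hs⟩ := key n g hg ∅ (by simp) (by simp)
    choose p hp using hs
    set m := u * g * u'
    have hpne : ∀ j, (m : Mn) (p j) j ≠ 0 := by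
      intro j h0
      have : (m : Mn) *ᵥ Pi.single j 1 = (m : Mn) *ᵥ 0 := by
        rw [col_eq, Matrix.mulVec_zero]
        funext l
        by_cases hl : l = p j
        · subst hl; exact h0
        · exact hp j l hl
      simpa using congrFun (mulVec_inj this) j
    have hinj : Function.Injective p := by
      intro i j hij
      by_contra hne'
      have : (m : Mn) *ᵥ (Pi.single i ((m : Mn) (p j) j)) = (m : Mn) *ᵥ (Pi.single j ((m : Mn) (p i) i)) := by
        funext l
        simp only [Matrix.mulVec_single, MulOpposite.smul_eq_mul_unop, MulOpposite.unop_op, Pi.smul_apply,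
          Matrix.col_apply]
        by_cases hl : l = p i
        · subst hl; rw [← hij]; ring
        · rw [hp i l hl, hp j l (hij ▸ hl)]; simp
      have h2 := congrFun (mulVec_inj this) i
      simp [hne'] at h2
      exact hpne j h2
    refine ⟨u⁻¹, u'⁻¹, m, Equiv.ofBijective p (Finite.injective_iff_bijective.1 hinj), inv_mem hu,
      inv_mem hu', fun i j hij => hp j i hij, by simp only [m]; group⟩
  intro r
  induction r with
  | zero =>
    intro g _ S hS hset
    refine ⟨1, one_mem _, 1, one_mem _, fun j => ?_⟩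
    have : S = Finset.univ := Finset.eq_univ_of_card S (le_antisymm (Finset.card_le_univ S) (by simpa using hS))
    simpa using (hset j (this ▸ Finset.mem_univ j)).2
  | succ r ih =>
    intro g hg S hS hset
    by_cases hfull : S = Finset.univ
    · exact ⟨1, one_mem _, 1, one_mem _, fun j => by simpa using (hset j (hfull ▸ Finset.mem_univ j)).2⟩
    have hcne : (Finset.univ \ S).Nonempty := by
      rw [Finset.nonempty_iff_ne_empty, Ne, Finset.sdiff_eq_empty_iff_subset]
      exact fun hh => hfull (Finset.univ_subset_iff.1 hh)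
    set j := (Finset.univ \ S).min' hcne with hj
    have hjS : j ∉ S := (Finset.mem_sdiff.1 (Finset.min'_mem _ hcne)).2
    have hmin : ∀ i, i ∉ S → j ≤ i := fun i hi => Finset.min'_le _ _ (by simp [hi])
    have hrjS : Fin.rev j ∉ S := fun hh => hjS (by simpa using (hset _ hh).1)
    set v : Vn := fun l => (g : Mn) l j with hv
    have hvne : (Finset.univ.filter fun l => v l ≠ 0).Nonempty := by
      rw [Finset.nonempty_iff_ne_empty, Ne, Finset.filter_eq_empty_iff]
      intro hh
      have : (g : Mn) *ᵥ Pi.single j 1 = (g : Mn) *ᵥ 0 := by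
        rw [col_eq, Matrix.mulVec_zero]
        funext l
        simpa [hv] using hh (Finset.mem_univ l)
      simpa using congrFun (mulVec_inj this) j
    set k := (Finset.univ.filter fun l => v l ≠ 0).max' hvne with hk
    have hvk : v k ≠ 0 := (Finset.mem_filter.1 (Finset.max'_mem _ hvne)).2
    have hvmax : ∀ i, k < i → v i = 0 := fun i hi => by
      by_contra h0
      exact absurd (Finset.le_max' _ i (by simpa using h0)) (not_le.2 hi)
    have hiso : ab σ v v = 0 := by rw [hv, col_mem_H hg, if_neg (hne j)]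
    -- the settled columns are orthogonal to the new one
    have horth : ∀ l ∈ S, ∀ i, (g : Mn) i l ≠ 0 → v (Fin.rev i) = 0 ∧ v i = 0 := by
      intro l hl i hil
      obtain ⟨e, he⟩ := (hset l hl).2
      have hie : i = e := by
        by_contra hne'
        exact hil (he i hne')
      subst hie
      have hcol : (fun x => (g : Mn) x l) = Pi.single i ((g : Mn) i l) := by
        funext x
        by_cases hx : x = i
        · subst hx; simp
        · simp [hx, he x hx]
      have h1 : v (Fin.rev i) = 0 := by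
        have := col_mem_H hg j l
        rw [if_neg (fun hh : j = Fin.rev l => hjS (hh ▸ (hset l hl).1)), hcol, ab_single_right] at this
        exact (mul_eq_zero.1 this).resolve_right ((map_ne_zero σ).2 hil)
      refine ⟨h1, ?_⟩
      obtain ⟨e', he'⟩ := (hset _ (hset l hl).1).2
      have h2 := col_mem_H hg l (Fin.rev l)
      rw [if_pos (Fin.rev_rev l).symm, hcol, ab_single_left] at h2
      have he2 : e' = Fin.rev i := by
        by_contra hne'
        rw [he' _ (Ne.symm hne'), map_zero, mul_zero] at h2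
        exact zero_ne_one h2
      have hcol' : (fun x => (g : Mn) x (Fin.rev l)) = Pi.single (Fin.rev i) ((g : Mn) (Fin.rev i) (Fin.rev l)) := by
        funext x
        by_cases hx : x = Fin.rev i
        · subst hx; simp
        · simp [hx, he' x (he2 ▸ hx)]
      have := col_mem_H hg j (Fin.rev l)
      rw [if_neg (fun hh => hjS (by rw [hh, Fin.rev_rev]; exact hl)), hcol', ab_single_right, Fin.rev_rev] at this
      refine (mul_eq_zero.1 this).resolve_right ((map_ne_zero σ).2 fun h0 => ?_)
      rw [h0, map_zero, mul_zero] at h2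
      exact zero_ne_one h2
    obtain ⟨u, hu, huv, hufix⟩ := clear_vec h hne v hiso k hvk hvmax
    set g₁ := u * g with hg₁
    have hg₁H : g₁ ∈ H n σ := mul_mem hu.2 hg
    have hg₁S : ∀ l ∈ S, ∀ x, (g₁ : Mn) x l = (g : Mn) x l := by
      intro l hl x
      have : (u : Mn) *ᵥ (fun x => (g : Mn) x l) = fun x => (g : Mn) x l := by
        refine hufix _ ?_ fun i hi _ => ?_
        · by_contra h0
          exact hvk (horth l hl k h0).2
        · by_contra h0
          exact hi (by simpa using (horth l hl _ h0).1)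
      have h2 := congrFun this x
      rw [← col_eq, ← mulVec_mul, col_eq] at h2
      simpa [hg₁] using h2
    have hg₁j : (fun x => (g₁ : Mn) x j) = Pi.single k (v k) := by
      rw [← col_eq, hg₁, mulVec_mul, col_eq]
      exact huv
    -- clear the row of the new entry, by the inverse
    set w : Vn := fun x => ((g₁⁻¹ : SLn) : Mn) x (Fin.rev k) with hw
    have hwval : ∀ x, w x = σ ((g₁ : Mn) k (Fin.rev x)) := fun x => by
      rw [hw]
      show ((g₁⁻¹ : SLn) : Mn) x (Fin.rev k) = _
      rw [inv_entry h hg₁H, Fin.rev_rev]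
    have hwk : w (Fin.rev j) ≠ 0 := by
      rw [hwval, Fin.rev_rev, Ne, map_eq_zero, congrFun hg₁j k]
      simpa using hvk
    have hkS : ∀ l ∈ S, (g₁ : Mn) k l = 0 := by
      intro l hl
      rw [hg₁S l hl k]
      by_contra h0
      exact hvk (horth l hl k h0).2
    have hwmax : ∀ i, Fin.rev j < i → w i = 0 := by
      intro i hi
      rw [hwval, map_eq_zero]
      refine hkS _ ?_
      by_contra hiS
      have := hmin _ hiS
      rw [← Fin.rev_le_rev, Fin.rev_rev] at this
      exact absurd this (not_le.2 hi)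
    have hwiso : ab σ w w = 0 := by rw [hw, col_mem_H (inv_mem hg₁H), if_neg (hne _)]
    obtain ⟨u₂, hu₂, hu₂w, hu₂fix⟩ := clear_vec h hne w hwiso (Fin.rev j) hwk hwmax
    set g₂ := g₁ * u₂⁻¹ with hg₂
    have hS' : n ≤ (insert j (insert (Fin.rev j) S)).card + r := by
      rw [Finset.card_insert_of_notMem (by simp [hne j, hjS]), Finset.card_insert_of_notMem hrjS]
      omega
    have hcolfix : ∀ l, l ≠ Fin.rev j → (∀ i, w i ≠ 0 → i ≠ Fin.rev j → l ≠ Fin.rev i) →
        (fun x => (g₂ : Mn) x l) = fun x => (g₁ : Mn) x l := by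
      intro l hl hl'
      have hfix := inv_mulVec (hu₂fix (Pi.single l 1) (by simp [Ne.symm hl]) fun i hi hi' => by
        simp [Ne.symm (hl' i hi hi')])
      rw [← col_eq, hg₂, mulVec_mul, hfix, col_eq]
    obtain ⟨a, ha, a', ha', hfin⟩ := ih g₂ (mul_mem hg₁H (inv_mem hu₂.2)) (insert j (insert (Fin.rev j) S))
      hS' (by
        intro l hl
        simp only [Finset.mem_insert] at hl ⊢
        rcases hl with rfl | rfl | hl
        · refine ⟨Or.inr (Or.inl rfl), k, fun x hx => ?_⟩
          rw [congrFun (hcolfix j (hne j) fun i _ hi' e => hi' (by rw [e, Fin.rev_rev])) x, congrFun hg₁j x]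
          simp [hx]
        · refine ⟨Or.inl (Fin.rev_rev j), Fin.rev k, fun x hx => ?_⟩
          have hwj : ((u₂ * g₁⁻¹ : SLn) : Mn) *ᵥ Pi.single (Fin.rev k) 1 =
              Pi.single (Fin.rev j) (w (Fin.rev j)) := by rw [mulVec_mul, col_eq]; exact hu₂w
          have h3 := inv_mulVec hwj
          rw [_root_.mul_inv_rev, inv_inv, ← hg₂, Matrix.mulVec_single] at h3
          have h4 := congrFun h3 x
          simp only [Pi.smul_apply, Matrix.col_apply, MulOpposite.smul_eq_mul_unop, MulOpposite.unop_op,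
            Pi.single_apply, if_neg hx] at h4
          exact (mul_eq_zero.1 h4).resolve_right hwk
        · refine ⟨Or.inr (Or.inr (hset l hl).1), ?_⟩
          obtain ⟨e, he⟩ := (hset l hl).2
          refine ⟨e, fun x hx => ?_⟩
          rw [congrFun (hcolfix l (fun e' => hrjS (e' ▸ hl)) fun i hi _ e' => hi (by
            rw [hwval, map_eq_zero, ← e']; exact hkS l hl)) x, hg₁S l hl x]
          exact he x hx)
    refine ⟨a * u, mul_mem ha hu, u₂⁻¹ * a', mul_mem (inv_mem hu₂) ha', ?_⟩
    rw [show a * u * g * (u₂⁻¹ * a') = a * g₂ * a' by simp only [hg₂, hg₁]; group]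
    exact hfin

end CfsgLib.Geometry.Pron
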