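import Cfsg.Agent.Lib.FgsC.Pronormal

/-!
Pronormality of the subgroups of odd index from the normaliser of a Sylow subgroup.
-/

set_option autoImplicit false

namespace CfsgLib.Geometry.Pron

open Cfsg.FgsC.Pronormal

variable {G : Type*} [Group G] [Finite G] {p : ℕ} [Fact p.Prime]

theorem exists_eq_cj (S P : Sylow p G) : ∃ c : G, (P : Subgroup G) = cj c (S : Subgroup G) := by
  obtain ⟨c, hc⟩ := MulAction.exists_smul_eq G S P
  refine ⟨c, ?_⟩
  rw [← hc, Sylow.coe_subgroup_smul]
  ext x
  rw [mem_cj, Subgroup.mem_pointwise_smul_iff_inv_smul_mem, MulAut.smul_def, MulAut.conj_inv_apply]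

theorem pronormal_of_sylow_le {S : Sylow p G} {H : Subgroup G} (hS : (S : Subgroup G) ≤ H)
    (hN : ∀ g ∈ Subgroup.normalizer ((S : Subgroup G) : Set G),
      ∃ x ∈ H ⊔ cj g H, cj g H = cj x H) : Cfsg.IsPronormal H := by
  intro g
  set K := H ⊔ cj g H with hK
  have h1 : (S : Subgroup G) ≤ K := hS.trans le_sup_left
  have h2 : cj g (S : Subgroup G) ≤ K := (cj_mono g hS).trans le_sup_right
  let P₁ : Sylow p K := S.subtype h1
  have hc : Nat.card ((cj g (S : Subgroup G)).subgroupOf K) = Nat.card P₁ := by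
    show _ = Nat.card ((S : Subgroup G).subgroupOf K)
    rw [Nat.card_congr (Subgroup.subgroupOfEquivOfLe h2).toEquiv,
      Nat.card_congr (Subgroup.subgroupOfEquivOfLe h1).toEquiv]
    exact Subgroup.card_map_of_injective (MulAut.conj g).injective
  let P₂ : Sylow p K := Sylow.ofCard ((cj g (S : Subgroup G)).subgroupOf K)
    (by rw [hc]; exact P₁.card_eq_multiplicity)
  obtain ⟨k, hk⟩ := exists_eq_cj P₁ P₂
  have hk' : cj g (S : Subgroup G) = cj (k : G) (S : Subgroup G) := by
    have e : ((P₁ : Subgroup K)).map K.subtype = (S : Subgroup G) := Subgroup.map_subgroupOf_eq_of_le h1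
    calc cj g (S : Subgroup G) = (P₂ : Subgroup K).map K.subtype :=
          (Subgroup.map_subgroupOf_eq_of_le h2).symm
      _ = cj (k : G) (S : Subgroup G) := by rw [hk, map_cj, e]; rfl
  obtain ⟨x, hx, he⟩ := hN _ (inv_mul_mem_normalizer hk')
  refine ⟨(k : G) * x, K.mul_mem k.2 ?_, ?_⟩
  · have hle : H ⊔ cj ((k : G)⁻¹ * g) H ≤ K := by
      rw [← cj_cj]
      exact sup_le le_sup_left (cj_le_of_mem (K.inv_mem k.2) le_sup_right)
    exact hle hx
  · show cj g H = cj ((k : G) * x) H
    rw [← cj_cj, ← he, cj_cj, mul_inv_cancel_left]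

theorem pronormal_all (S : Sylow p G)
    (hN : ∀ H : Subgroup G, (S : Subgroup G) ≤ H → ∀ g ∈ Subgroup.normalizer ((S : Subgroup G) : Set G),
      ∃ x ∈ H ⊔ cj g H, cj g H = cj x H)
    (H : Subgroup G) (hH : ¬ p ∣ H.index) : Cfsg.IsPronormal H := by
  obtain ⟨P, hP⟩ := exists_sylow_le hH
  obtain ⟨c, hc⟩ := exists_eq_cj S P
  refine pronormal_of_cj (c := c⁻¹) (pronormal_of_sylow_le (S := S) ?_ (hN _ ?_))
  all_goals
    have h := cj_mono c⁻¹ hP
    rwa [hc, cj_cj, inv_mul_cancel, cj_one] at h

/-- the overgroups are normalised by the normaliser of the Sylow subgroup -/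
theorem pronormal_all' (S : Sylow p G)
    (hN : ∀ H : Subgroup G, (S : Subgroup G) ≤ H → ∀ g ∈ Subgroup.normalizer ((S : Subgroup G) : Set G),
      cj g H = H)
    (H : Subgroup G) (hH : ¬ p ∣ H.index) : Cfsg.IsPronormal H :=
  pronormal_all S (fun K hK g hg => ⟨1, one_mem _, by rw [hN K hK g hg, cj_one]⟩) H hH

/-- a `p`-subgroup containing the `p`-elements of its normaliser is a Sylow subgroup -/
theorem exists_sylow_eq {P : Subgroup G} (hP : IsPGroup p P)
    (h : ∀ g ∈ Subgroup.normalizer (P : Set G), (∃ k : ℕ, g ^ p ^ k = 1) → g ∈ P) :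
    ∃ S : Sylow p G, (S : Subgroup G) = P := by
  obtain ⟨S, hS⟩ := hP.exists_le_sylow
  refine ⟨S, le_antisymm ?_ hS⟩
  by_contra hne
  have := S.isPGroup'.isNilpotent
  have hlt : P.subgroupOf (S : Subgroup G) < ⊤ := by
    rw [lt_top_iff_ne_top, Ne, Subgroup.subgroupOf_eq_top]
    exact hne
  obtain ⟨x, hxN, hxP⟩ := SetLike.exists_of_lt (normalizerCondition_of_isNilpotent _ hlt)
  refine hxP (h (x : G) ?_ ?_)
  · rw [Subgroup.mem_normalizer_iff] at hxN ⊢
    intro y
    constructor
    · exact fun hy => (hxN ⟨y, hS hy⟩).1 hy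
    · intro hy
      have hyS : y ∈ (S : Subgroup G) := by
        have := mul_mem (mul_mem (inv_mem x.2) (hS hy)) x.2
        simpa [mul_assoc] using this
      exact (hxN ⟨y, hyS⟩).2 hy
  · obtain ⟨k, hk⟩ := S.isPGroup' x
    exact ⟨k, congrArg Subtype.val hk⟩

/-- transfer along a surjection -/
theorem pronormal_all_map {G' : Type*} [Group G'] (f : G →* G') (hf : Function.Surjective f)
    (h : ∀ H : Subgroup G, ¬ p ∣ H.index → Cfsg.IsPronormal H)
    (H : Subgroup G') (hH : ¬ p ∣ H.index) : Cfsg.IsPronormal H := by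
  have := pronormal_map f hf (h (H.comap f) (by rwa [Subgroup.index_comap_of_surjective _ hf]))
  rwa [Subgroup.map_comap_eq_self_of_surjective hf] at this

theorem not_two_dvd {n : ℕ} (h : Odd n) : ¬ 2 ∣ n := by
  obtain ⟨k, rfl⟩ := h
  omega

/-- A preorder relation containing a linear order is respected blockwise by its automorphisms. -/
theorem rel_perm_equiv {ι : Type*} [Fintype ι] [LinearOrder ι] (R : ι → ι → Prop)
    (hle : ∀ a b, a ≤ b → R a b) (htr : ∀ a b c, R a b → R b c → R a c) (π : Equiv.Perm ι)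
    (hπ : ∀ a b, R a b → R (π a) (π b)) (a : ι) : R a (π a) ∧ R (π a) a := by
  classical
  let A : Finset (ι × ι) := Finset.univ.filter fun x => R x.1 x.2
  have hiff : ∀ a b, R (π a) (π b) → R a b := by
    intro a b h
    have hinj : Function.Injective (Prod.map π π) := π.injective.prodMap π.injective
    have hA : A.image (Prod.map π π) = A := by
      refine Finset.eq_of_subset_of_card_le (fun x hx => ?_)
        (Finset.card_image_of_injective _ hinj).ge
      obtain ⟨y, hy, rfl⟩ := Finset.mem_image.1 hx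
      simp only [A, Finset.mem_filter, Finset.mem_univ, true_and] at hy ⊢
      exact hπ _ _ hy
    have : (π a, π b) ∈ A.image (Prod.map π π) := by
      rw [hA]; simpa [A] using h
    obtain ⟨y, hy, he⟩ := Finset.mem_image.1 this
    have e : y = (a, b) := hinj he
    simpa [A, e] using hy
  let D : ι → Finset ι := fun a => Finset.univ.filter fun c => R c a
  have hcard : (D (π a)).card = (D a).card := by
    refine Finset.card_bij' (fun c _ => π.symm c) (fun c _ => π c) ?_ ?_ (by simp) (by simp)
    · intro c hc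
      simp only [D, Finset.mem_filter, Finset.mem_univ, true_and] at hc ⊢
      exact hiff _ _ (by simpa using hc)
    · intro c hc
      simp only [D, Finset.mem_filter, Finset.mem_univ, true_and] at hc ⊢
      exact hπ _ _ hc
  have key : ∀ x y, x ≤ y → (D y).card = (D x).card → R x y ∧ R y x := by
    intro x y hxy hc
    refine ⟨hle _ _ hxy, ?_⟩
    have hsub : D x ⊆ D y := by
      intro c hc
      simp only [D, Finset.mem_filter, Finset.mem_univ, true_and] at hc ⊢
      exact htr _ _ _ hc (hle _ _ hxy)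
    have hy : y ∈ D x := by
      rw [Finset.eq_of_subset_of_card_le hsub hc.le]
      simp [D, hle y y le_rfl]
    simpa [D] using hy
  rcases le_total a (π a) with h | h
  · exact key _ _ h hcard
  · exact (key _ _ h hcard.symm).symm

end CfsgLib.Geometry.Pron
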