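import Cfsg.Agent.Lib.Geometry.Pron.Glue
import Cfsg.Agent.Lib.KnownB.Flags.Orbits
import Cfsg.Agent.Lib.Involutions.PSLFusionSimple

/-!
Overgroups of the unitriangular subgroup of `SL_n` are normalised by the diagonal subgroup.
-/

set_option autoImplicit false

namespace CfsgLib.Geometry.Pron

open Matrix CfsgLib.KnownB.PSLAut CfsgLib.Involutions.PSLUnip Cfsg.FgsC.Pronormal

variable {n : ℕ} {F : Type*} [Field F]

local notation "SLn" => Matrix.SpecialLinearGroup (Fin n) F
local notation "Mn" => Matrix (Fin n) (Fin n) F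
local notation "Tv" => Matrix.SpecialLinearGroup.transvection (F := F)

/-- a monomial matrix -/
def IsMono (A : Matrix (Fin n) (Fin n) F) (π : Equiv.Perm (Fin n)) : Prop :=
  ∀ i j, i ≠ π j → A i j = 0

theorem IsMono.mulVec {A : Mn} {π : Equiv.Perm (Fin n)} (h : IsMono A π) (v : Fin n → F) (i : Fin n) :
    (A *ᵥ v) (π i) = A (π i) i * v i := by
  rw [Matrix.mulVec, dotProduct, Finset.sum_eq_single i]
  · intro j _ hj
    rw [h _ _ fun e => hj (π.injective e.symm), zero_mul]
  · simp

theorem IsMono.mul {A B : Mn} {π ρ : Equiv.Perm (Fin n)} (hA : IsMono A π) (hB : IsMono B ρ) :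
    IsMono (A * B) (π * ρ) := by
  intro i j hij
  rw [Matrix.mul_apply]
  refine Finset.sum_eq_zero fun k _ => ?_
  by_cases hk : k = ρ j
  · subst hk
    rw [hA _ _ hij, zero_mul]
  · rw [hB _ _ hk, mul_zero]

theorem IsMono.ne_zero {g : SLn} {π : Equiv.Perm (Fin n)} (h : IsMono (g : Mn) π) (j : Fin n) :
    (g : Mn) (π j) j ≠ 0 := by
  intro h0
  have h1 : (g : Mn) *ᵥ Pi.single j 1 = 0 := by
    funext i
    by_cases hi : i = π j
    · subst hi
      simpa using h0
    · simpa using h i j hi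
  have h2 : ((g⁻¹ : SLn) : Mn) *ᵥ ((g : Mn) *ᵥ Pi.single j 1) = Pi.single j 1 := by
    rw [Matrix.mulVec_mulVec, ← Matrix.SpecialLinearGroup.coe_mul, inv_mul_cancel,
      Matrix.SpecialLinearGroup.coe_one, Matrix.one_mulVec]
  rw [h1, Matrix.mulVec_zero] at h2
  simpa using congrFun h2 j

theorem IsMono.of_diagonal {A : Mn} {d : Fin n → F} (h : A = Matrix.diagonal d) : IsMono A 1 :=
  fun i j hij => by rw [h, Matrix.diagonal_apply_ne _ (by simpa using hij)]

theorem IsMono.eq_diagonal {A : Mn} (h : IsMono A 1) : A = Matrix.diagonal fun i => A i i := by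
  ext i j
  by_cases hij : i = j
  · subst hij; simp
  · rw [Matrix.diagonal_apply_ne _ hij, h i j (by simpa using hij)]

theorem commute_of_mono_one {g s : SLn} (hg : IsMono (g : Mn) 1) (hs : IsMono (s : Mn) 1) :
    s * g * s⁻¹ = g := by
  rw [mul_inv_eq_iff_eq_mul]
  refine Subtype.ext ?_
  rw [Matrix.SpecialLinearGroup.coe_mul, Matrix.SpecialLinearGroup.coe_mul, hg.eq_diagonal,
    hs.eq_diagonal, Matrix.diagonal_mul_diagonal, Matrix.diagonal_mul_diagonal]
  simp only [mul_comm]

/-- a monomial matrix permutes the root elements -/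
theorem mono_conj_tv {g : SLn} {π : Equiv.Perm (Fin n)} (h : IsMono (g : Mn) π) {a b : Fin n}
    (hab : a ≠ b) (t : F) :
    g * Tv hab t * g⁻¹ =
      Tv (π.injective.ne hab) ((g : Mn) (π a) a * t / (g : Mn) (π b) b) := by
  rw [mul_inv_eq_iff_eq_mul]
  refine Subtype.ext (Matrix.ext_iff_mulVec.2 fun v => funext fun k => ?_)
  obtain ⟨i, rfl⟩ := π.surjective k
  rw [Matrix.SpecialLinearGroup.coe_mul, Matrix.SpecialLinearGroup.coe_mul, ← Matrix.mulVec_mulVec,
    ← Matrix.mulVec_mulVec, CfsgLib.Classical.transvection_mulVec, CfsgLib.Classical.transvection_mulVec]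
  simp only [Matrix.mulVec_add, Pi.add_apply, h.mulVec, Pi.single_apply, π.injective.eq_iff]
  have := h.ne_zero b
  split_ifs with hi
  · subst hi; field_simp
  · simp

/-- The root group lies in `K`. -/
def RootIn (K : Subgroup SLn) (a b : Fin n) : Prop := ∀ h : a ≠ b, ∀ t : F, Tv h t ∈ K

theorem rootIn_trans {K : Subgroup SLn} (a b c : Fin n) (h1 : RootIn K a b) (h2 : RootIn K b c) :
    RootIn K a c := by
  intro hac t
  rcases eq_or_ne a b with rfl | hab
  · exact h2 hac t
  rcases eq_or_ne b c with rfl | hbc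
  · exact h1 hac t
  have e : Tv hac t = Tv hab t * Tv hbc 1 * Tv hab (-t) * Tv hbc (-1) := by
    refine Subtype.ext (Matrix.ext_iff_mulVec.2 fun v => funext fun k => ?_)
    simp only [Matrix.SpecialLinearGroup.coe_mul, ← Matrix.mulVec_mulVec,
      CfsgLib.Classical.transvection_mulVec]
    rcases eq_or_ne k a with rfl | hka
    · simp [hab, hac, hab.symm, hac.symm, hbc, hbc.symm]
      ring
    rcases eq_or_ne k b with rfl | hkb
    · simp [hab, hac, hab.symm, hac.symm, hbc, hbc.symm]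
    · simp [hka, hkb]
  rw [e]
  exact mul_mem (mul_mem (mul_mem (h1 hab t) (h2 hbc 1)) (h1 hab _)) (h2 hbc _)

/-- the Weyl element of two coordinates -/
def wEl {a b : Fin n} (hab : a ≠ b) : SLn := Tv hab 1 * Tv hab.symm (-1) * Tv hab 1

theorem wEl_mono {a b : Fin n} (hab : a ≠ b) : IsMono ((wEl (F := F) hab : SLn) : Mn) (Equiv.swap a b) := by
  intro i j hij
  have e : ((wEl (F := F) hab : SLn) : Mn) i j = (((wEl (F := F) hab : SLn) : Mn) *ᵥ Pi.single j 1) i := by
    simp
  rw [e, wEl]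
  simp only [Matrix.SpecialLinearGroup.coe_mul, ← Matrix.mulVec_mulVec,
    CfsgLib.Classical.transvection_mulVec]
  rcases eq_or_ne j a with rfl | hja
  · rw [Equiv.swap_apply_left] at hij
    rcases eq_or_ne i j with rfl | hi
    · simp [hab, hab.symm]
    · simp [hi, hij, hab, hab.symm]
  rcases eq_or_ne j b with rfl | hjb
  · rw [Equiv.swap_apply_right] at hij
    rcases eq_or_ne i j with rfl | hi
    · simp [hab, hab.symm]
    · simp [hi, hij, hab, hab.symm]
  · rw [Equiv.swap_apply_of_ne_of_ne hja hjb] at hij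
    rcases eq_or_ne i a with rfl | hi <;> rcases eq_or_ne i b with rfl | hi' <;>
      simp_all [hab.symm, hja.symm, hjb.symm]

theorem bruhat_SL (g : SLn) :
    ∃ (u u' m : SLn) (π : Equiv.Perm (Fin n)), u ∈ U n F ∧ u' ∈ U n F ∧ IsMono (m : Mn) π ∧
      g = u * m * u' := by
  let g' : GL (Fin n) F := Matrix.SpecialLinearGroup.toGL g
  obtain ⟨b, c, π, hb, hc, he⟩ := CfsgLib.KnownB.Flags.bruhat g'
  set D : Mn := ((b⁻¹ : GL (Fin n) F) : Mn)
  have hD : D.BlockTriangular id := by
    have := b.invertible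
    rw [show D = ((b : Mn))⁻¹ from Matrix.coe_units_inv b]
    exact Matrix.blockTriangular_inv_of_blockTriangular hb
  have split : ∀ C : Mn, C.det ≠ 0 → C.BlockTriangular id →
      ∃ (u : SLn) (d : Fin n → F), u ∈ U n F ∧ C = (u : Mn) * Matrix.diagonal d := by
    intro C hC hCt
    rw [Matrix.det_of_isUpperTriangular hCt] at hC
    have hd : ∀ i, C i i ≠ 0 := fun i h => hC (Finset.prod_eq_zero (Finset.mem_univ i) h)
    let X : Mn := C * Matrix.diagonal fun i => (C i i)⁻¹
    have hX : X.BlockTriangular id := hCt.mul (Matrix.blockTriangular_diagonal _)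
    have hXd : ∀ i, X i i = 1 := fun i => by
      simp [X, mul_inv_cancel₀ (hd i)]
    have hXdet : X.det = 1 := by
      rw [Matrix.det_of_isUpperTriangular hX]; simp [hXd]
    refine ⟨⟨X, hXdet⟩, fun i => C i i, ⟨hX, hXd⟩, ?_⟩
    show C = (C * Matrix.diagonal fun i => (C i i)⁻¹) * Matrix.diagonal fun i => C i i
    rw [mul_assoc, Matrix.diagonal_mul_diagonal]
    simp [inv_mul_cancel₀ (hd _)]
  have hC0 : (c : Mn).det ≠ 0 := (Matrix.GeneralLinearGroup.det c).ne_zero
  have hD0 : D.det ≠ 0 := (Matrix.GeneralLinearGroup.det b⁻¹).ne_zero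
  obtain ⟨u, d, hu, hud⟩ := split _ hC0 hc
  obtain ⟨w, hw⟩ : ∃ v : SLn, v ∈ U n F ∧ ∃ e : Fin n → F, D = Matrix.diagonal e * (v : Mn) := by
    obtain ⟨v, e, hv, hve⟩ := split _ hD0 hD
    have he0 : ∀ i, e i ≠ 0 := by
      intro i hi
      refine hD0 ?_
      rw [hve, Matrix.det_mul, Matrix.det_diagonal, Finset.prod_eq_zero (Finset.mem_univ i) hi, mul_zero]
    let Y : Mn := Matrix.diagonal (fun i => (e i)⁻¹) * (v : Mn) * Matrix.diagonal e
    have hY : Y.BlockTriangular id :=
      ((Matrix.blockTriangular_diagonal _).mul hv.1).mul (Matrix.blockTriangular_diagonal _)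
    have hYd : ∀ i, Y i i = 1 := fun i => by
      show (Matrix.diagonal (fun i => (e i)⁻¹) * (v : Mn) * Matrix.diagonal e) i i = 1
      rw [Matrix.mul_diagonal, Matrix.diagonal_mul, hv.2, mul_one, inv_mul_cancel₀ (he0 i)]
    refine ⟨⟨Y, by rw [Matrix.det_of_isUpperTriangular hY]; simp [hYd]⟩, ⟨hY, hYd⟩, e, ?_⟩
    show D = Matrix.diagonal e * (_ * _ * _)
    rw [← mul_assoc, ← mul_assoc, Matrix.diagonal_mul_diagonal, hve]
    simp [mul_inv_cancel₀ (he0 _)]
  obtain ⟨hwU, e, hwe⟩ := hw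
  set P : Mn := ((CfsgLib.KnownB.Flags.permGL F π : GL (Fin n) F) : Mn)
  have hP : IsMono P π := fun i j hij => by
    show ((CfsgLib.KnownB.Flags.permGL F π : GL (Fin n) F) : Mn) i j = 0
    rw [CfsgLib.KnownB.Flags.permGL_apply, if_neg]
    exact fun h => hij (by rw [← h, Equiv.apply_symm_apply])
  have hgm : (g : Mn) = (u : Mn) * (Matrix.diagonal d * P * Matrix.diagonal e) * (w : Mn) := by
    have h1 : g' = c * CfsgLib.KnownB.Flags.permGL F π * b⁻¹ := by rw [← he, mul_inv_cancel_right]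
    have h2 : (g : Mn) = (c : Mn) * P * D := congrArg (fun x : GL (Fin n) F => (x : Mn)) h1
    rw [h2, hud, hwe]
    noncomm_ring
  refine ⟨u, w, u⁻¹ * g * w⁻¹, π, hu, hwU, ?_, by group⟩
  have hm : ((u⁻¹ * g * w⁻¹ : SLn) : Mn) = Matrix.diagonal d * P * Matrix.diagonal e := by
    rw [Matrix.SpecialLinearGroup.coe_mul, Matrix.SpecialLinearGroup.coe_mul, hgm]
    simp only [← mul_assoc]
    rw [← Matrix.SpecialLinearGroup.coe_mul, inv_mul_cancel, Matrix.SpecialLinearGroup.coe_one, one_mul,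
      mul_assoc, mul_assoc, mul_assoc, ← Matrix.SpecialLinearGroup.coe_mul, mul_inv_cancel,
      Matrix.SpecialLinearGroup.coe_one, mul_one, mul_assoc]
  rw [hm]
  simpa using ((IsMono.of_diagonal (d := d) rfl).mul hP).mul (IsMono.of_diagonal (d := e) rfl)

variable [Finite F]

/-- monomial elements of an overgroup are fixed up to the overgroup by the diagonal group -/
theorem mono_conj_mem {K : Subgroup SLn} (hK : U n F ≤ K) {s : SLn} (hs : IsMono (s : Mn) 1) :
    ∀ (k : ℕ) (m : SLn) (π : Equiv.Perm (Fin n)), π.support.card ≤ k → IsMono (m : Mn) π → m ∈ K →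
      s * m * s⁻¹ ∈ K := by
  classical
  intro k
  induction k with
  | zero =>
    intro m π hπ hm hmK
    have : π = 1 := Equiv.Perm.support_eq_empty_iff.1 (Finset.card_eq_zero.1 (Nat.le_zero.1 hπ))
    rw [commute_of_mono_one (this ▸ hm) hs]
    exact hmK
  | succ k ih =>
    intro m π hπ hm hmK
    by_cases h1 : π = 1
    · rw [commute_of_mono_one (h1 ▸ hm) hs]
      exact hmK
    obtain ⟨a, ha⟩ : ∃ a, π a ≠ a := by
      by_contra h
      push_neg at h
      exact h1 (Equiv.ext h)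
    have hR : ∀ x y, RootIn K x y → RootIn K (π x) (π y) := by
      intro x y hxy h t
      have hne : x ≠ y := fun e => h (e ▸ rfl)
      have := mul_mem (mul_mem hmK (hxy hne (t * (m : Mn) (π y) y / (m : Mn) (π x) x))) (inv_mem hmK)
      rw [mono_conj_tv hm hne] at this
      have hx := hm.ne_zero x
      have hy := hm.ne_zero y
      convert this using 2
      field_simp
    obtain ⟨hab, hba⟩ := rel_perm_equiv (RootIn K)
      (fun x y hxy h t => hK (transvection_mem_U (lt_of_le_of_ne hxy h) t)) rootIn_trans π hR a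
    set w : SLn := wEl (Ne.symm ha) with hw
    have hwK : w ∈ K := mul_mem (mul_mem (hab _ _) (hba _ _)) (hab _ _)
    have hswK : s * w * s⁻¹ ∈ K := by
      have : s * w * s⁻¹ = s * Tv (Ne.symm ha) 1 * s⁻¹ * (s * Tv (Ne.symm ha).symm (-1) * s⁻¹) *
          (s * Tv (Ne.symm ha) 1 * s⁻¹) := by rw [hw, wEl]; group
      rw [this, mono_conj_tv hs, mono_conj_tv hs]
      exact mul_mem (mul_mem (hab _ _) (hba _ _)) (hab _ _)
    have hlt : (Equiv.swap a (π a) * π).support.card ≤ k := by
      have := Equiv.Perm.card_support_swap_mul ha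
      omega
    have h2 := ih (w * m) _ hlt ((wEl_mono _).mul hm) (mul_mem hwK hmK)
    have := mul_mem (inv_mem hswK) h2
    convert this using 1
    group

/-- an overgroup of the unitriangular group is normalised by the upper triangular group -/
theorem cj_eq_self_SL {K : Subgroup SLn} (hK : U n F ≤ K) {g : SLn} (hg : (g : Mn).BlockTriangular id) :
    cj g K = K := by
  have hd : ∀ i, (g : Mn) i i ≠ 0 := by
    intro i hi
    have : (g : Mn).det = 1 := g.2
    rw [Matrix.det_of_isUpperTriangular hg,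
      Finset.prod_eq_zero (f := fun j => (g : Mn) j j) (Finset.mem_univ i) hi] at this
    exact one_ne_zero this.symm
  have hdet : (Matrix.diagonal fun i => (g : Mn) i i).det = 1 := by
    exact ((Matrix.det_diagonal).trans (Matrix.det_of_isUpperTriangular hg).symm).trans g.2
  let s : SLn := ⟨_, hdet⟩
  have hs : IsMono (s : Mn) 1 := IsMono.of_diagonal (d := fun i => (g : Mn) i i) rfl
  have hu : g * s⁻¹ ∈ U n F := by
    have hinv : ((s⁻¹ : SLn) : Mn) = Matrix.diagonal fun i => ((g : Mn) i i)⁻¹ := by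
      have e : (s : Mn) * Matrix.diagonal (fun i => ((g : Mn) i i)⁻¹) = 1 := by
        show Matrix.diagonal _ * _ = _
        rw [Matrix.diagonal_mul_diagonal]
        simp [mul_inv_cancel₀ (hd _)]
      calc ((s⁻¹ : SLn) : Mn) = ((s⁻¹ : SLn) : Mn) * ((s : Mn) * Matrix.diagonal _) := by rw [e, mul_one]
        _ = _ := by rw [← mul_assoc, ← Matrix.SpecialLinearGroup.coe_mul, inv_mul_cancel,
          Matrix.SpecialLinearGroup.coe_one, one_mul]
    refine ⟨?_, fun i => ?_⟩
    · rw [Matrix.SpecialLinearGroup.coe_mul, hinv]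
      exact hg.mul (Matrix.blockTriangular_diagonal _)
    · rw [Matrix.SpecialLinearGroup.coe_mul, hinv, Matrix.mul_diagonal, mul_inv_cancel₀ (hd i)]
  refine Subgroup.eq_of_le_of_card_ge ?_ (Subgroup.card_map_of_injective (MulAut.conj g).injective).ge
  rintro _ ⟨x, hx, rfl⟩
  show g * x * g⁻¹ ∈ K
  rw [show g * x * g⁻¹ = (g * s⁻¹) * (s * x * s⁻¹) * (g * s⁻¹)⁻¹ by group]
  refine mul_mem (mul_mem (hK hu) ?_) (inv_mem (hK hu))
  obtain ⟨u, u', m, π, huU, hu'U, hm, rfl⟩ := bruhat_SL x
  have hsU : ∀ v ∈ U n F, s * v * s⁻¹ ∈ U n F := by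
    intro v hv
    have hsi : ((s⁻¹ : SLn) : Mn) = Matrix.diagonal fun i => ((g : Mn) i i)⁻¹ := by
      rw [Matrix.SpecialLinearGroup.coe_inv, show (s : Mn) = Matrix.diagonal _ from rfl]
      have e1 := Matrix.SpecialLinearGroup.coe_inv s
      have : (s : Mn) * ((s⁻¹ : SLn) : Mn) = 1 := by
        rw [← Matrix.SpecialLinearGroup.coe_mul, mul_inv_cancel, Matrix.SpecialLinearGroup.coe_one]
      rw [e1] at this
      have e2 : Matrix.diagonal (fun i => ((g : Mn) i i)⁻¹) * Matrix.diagonal (fun i => (g : Mn) i i) = 1 := by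
        rw [Matrix.diagonal_mul_diagonal]; simp [inv_mul_cancel₀ (hd _)]
      exact (left_inv_eq_right_inv e2 this).symm
    refine ⟨?_, fun i => ?_⟩
    · rw [Matrix.SpecialLinearGroup.coe_mul, Matrix.SpecialLinearGroup.coe_mul, hsi]
      exact ((Matrix.blockTriangular_diagonal _).mul hv.1).mul (Matrix.blockTriangular_diagonal _)
    · rw [Matrix.SpecialLinearGroup.coe_mul, Matrix.SpecialLinearGroup.coe_mul, hsi, Matrix.mul_diagonal,
        show (s : Mn) = Matrix.diagonal _ from rfl, Matrix.diagonal_mul, hv.2, mul_one, mul_inv_cancel₀ (hd i)]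
  have hmK : m ∈ K := by
    have := mul_mem (mul_mem (inv_mem (hK huU)) hx) (inv_mem (hK hu'U))
    convert this using 1
    group
  rw [show s * (u * m * u') * s⁻¹ = s * u * s⁻¹ * (s * m * s⁻¹) * (s * u' * s⁻¹) by group]
  exact mul_mem (mul_mem (hK (hsU u huU)) (mono_conj_mem hK hs _ m π le_rfl hm hmK)) (hK (hsU u' hu'U))

/-- subgroups of odd index of `PSL_n(q)`, `q` a power of two -/
theorem pronormal_PSL_even (hn : 1 ≤ n) [CharP F 2]
    (H : Subgroup (Matrix.ProjectiveSpecialLinearGroup (Fin n) F)) (hH : Odd H.index) :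
    Cfsg.IsPronormal H := by
  haveI : Fact (Nat.Prime 2) := ⟨Nat.prime_two⟩
  obtain ⟨P, hP⟩ := CfsgLib.KnownB.PSLAut.exists_sylow_U n F 2 hn
  refine pronormal_all_map (p := 2) (CfsgLib.Involutions.PSLFusion.π n F)
    CfsgLib.Involutions.PSLFusion.π_surjective (pronormal_all' P fun K hK g hg => ?_) H (not_two_dvd hH)
  rw [hP] at hK hg
  exact cj_eq_self_SL hK (upper_of_normalizer fun x hx => (Subgroup.mem_normalizer_iff.1 hg x).1 hx)

end CfsgLib.Geometry.Pron
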