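import Cfsg.Agent.Lib.Geometry.Pron.RootsSU

/-!
Overgroups of the unitriangular subgroup of the unitary group, even dimension and characteristic two.
-/

set_option autoImplicit false

namespace CfsgLib.Geometry.Pron

open Matrix CfsgLib.KnownB.PSLAut CfsgLib.Involutions.PSLUnip CfsgLib.Involutions.UAnti CfsgLib.Classical
  CfsgLib.Classical.Unitary Cfsg.FgsC.Pronormal

variable {n : ℕ} {F : Type*} [Field F] {σ : F →+* F} {q : ℕ}

local notation "SLn" => Matrix.SpecialLinearGroup (Fin n) F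
local notation "Mn" => Matrix (Fin n) (Fin n) F
local notation "Tv" => Matrix.SpecialLinearGroup.transvection (F := F)

theorem rootH_of_lt (h : UFrob σ q) (hne : ∀ i : Fin n, i ≠ Fin.rev i) {K : Subgroup SLn}
    (hUK : U n F ⊓ H n σ ≤ K) {a b : Fin n} (hle : a ≤ b) : RootH σ K a b := by
  intro hab
  have hlt : a < b := lt_of_le_of_ne hle hab
  refine ⟨fun e c hc => hUK ?_, fun _ t => hUK ?_⟩
  · subst e
    exact ⟨transvection_mem_U hlt c, lg_mem h hab hc⟩
  · exact ⟨(U n F).mul_mem (transvection_mem_U hlt t) (transvection_mem_U (Fin.rev_lt_rev.2 hlt) _),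
      sh_mem h hab (hne a) (hne b) t⟩

theorem wp_mono (h : UFrob σ q) (hne : ∀ i : Fin n, i ≠ Fin.rev i) {a b : Fin n} (hab : a ≠ b)
    (hb : b ≠ Fin.rev a) :
    IsMono ((Wp hab σ (1 : F) : SLn) : Mn) (Equiv.swap a b * Equiv.swap (Fin.rev a) (Fin.rev b)) := by
  intro i j hij
  have h1 : Fin.rev a ≠ Fin.rev b := fun hh => hab (Fin.rev_injective hh)
  have h2 : a ≠ Fin.rev b := fun hh => hb (by rw [hh, Fin.rev_rev])
  have h3 := hne a
  have h4 := hne b
  have e : ((Wp hab σ (1 : F) : SLn) : Mn) i j = (((Wp hab σ (1 : F) : SLn) : Mn) *ᵥ Pi.single j 1) i := by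
    simp
  rw [e, mulVec_Wp hab h3 h4 h2 one_ne_zero]
  rw [Equiv.Perm.mul_apply] at hij
  split_ifs with c1 c2 c3 c4
  · subst c1
    have : b ≠ j := by
      rintro rfl
      rw [Equiv.swap_apply_of_ne_of_ne hb h4, Equiv.swap_apply_right] at hij
      exact hij rfl
    simp [this]
  · subst c2
    have : a ≠ j := by
      rintro rfl
      rw [Equiv.swap_apply_of_ne_of_ne h3 h2, Equiv.swap_apply_left] at hij
      exact hij rfl
    simp [this]
  · subst c3
    have : Fin.rev a ≠ j := by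
      rintro rfl
      rw [Equiv.swap_apply_left, Equiv.swap_apply_of_ne_of_ne h2.symm h4.symm] at hij
      exact hij rfl
    simp [this]
  · subst c4
    have : Fin.rev b ≠ j := by
      rintro rfl
      rw [Equiv.swap_apply_right, Equiv.swap_apply_of_ne_of_ne h3.symm hb.symm] at hij
      exact hij rfl
    simp [this]
  · have : j ≠ i := by
      rintro rfl
      rw [Equiv.swap_apply_of_ne_of_ne c4 c3, Equiv.swap_apply_of_ne_of_ne c1 c2] at hij
      exact hij rfl
    simp [this.symm]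

variable [CharP F 2]

/-- monomial elements of an overgroup -/
theorem mono_conj_mem_H (h : UFrob σ q) (hne : ∀ i : Fin n, i ≠ Fin.rev i) {K : Subgroup SLn}
    (hKH : K ≤ H n σ) (hUK : U n F ⊓ H n σ ≤ K) {s : SLn} (hsH : s ∈ H n σ) (hs : IsMono (s : Mn) 1) :
    ∀ (k : ℕ) (m : SLn) (π : Equiv.Perm (Fin n)), π.support.card ≤ k → IsMono (m : Mn) π → m ∈ K →
      s * m * s⁻¹ ∈ K := by
  classical
  intro k
  induction k with
  | zero =>
    intro m π hπ hm hmK
    have : π = 1 := Equiv.Perm.support_eq_empty_iff.1 (Finset.card_eq_zero.1 (Nat.le_zero.1 hπ))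
    rw [commute_of_mono_one (this ▸ hm) hs]
    exact hmK
  | succ k ih =>
    intro m π hπ hm hmK
    by_cases h1 : π = 1
    · rw [commute_of_mono_one (h1 ▸ hm) hs]
      exact hmK
    obtain ⟨a, ha⟩ : ∃ a, π a ≠ a := by
      by_contra hc
      push_neg at hc
      exact h1 (Equiv.ext hc)
    have hab : a ≠ π a := Ne.symm ha
    obtain ⟨hR, hR'⟩ := rel_perm_equiv (RootH σ K) (fun x y hxy => rootH_of_lt h hne hUK hxy)
      (rootH_trans h hne) π (fun x y hxy => rootH_map h hne (hKH hmK) hmK hm hxy) a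
    have hskew : (1 : F) + σ 1 = 0 := by rw [map_one]; exact CharTwo.add_self_eq_zero 1
    obtain ⟨w, ρ, hwK, hswK, hwm, hρa, hρfix⟩ : ∃ (w : SLn) (ρ : Equiv.Perm (Fin n)), w ∈ K ∧
        s * w * s⁻¹ ∈ K ∧ IsMono (w : Mn) ρ ∧ ρ (π a) = a ∧ ∀ x, π x = x → ρ x = x := by
      have hfix : ∀ x, π x = x → x ≠ a ∧ x ≠ π a := fun x hx =>
        ⟨fun e => ha (e ▸ hx), fun e => ha (π.injective (e ▸ hx))⟩
      by_cases hb : π a = Fin.rev a
      · refine ⟨wEl hab, Equiv.swap a (π a), ?_, ?_, wEl_mono hab, Equiv.swap_apply_right _ _,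
          fun x hx => Equiv.swap_apply_of_ne_of_ne (hfix x hx).1 (hfix x hx).2⟩
        · refine mul_mem (mul_mem ((hR hab).1 hb 1 hskew) ((hR' hab.symm).1 ?_ (-1) ?_)) ((hR hab).1 hb 1 hskew)
          · rw [hb, Fin.rev_rev]
          · rw [CharTwo.neg_eq]; exact hskew
        · have e : s * wEl hab * s⁻¹ = s * Tv hab 1 * s⁻¹ * (s * Tv hab.symm (-1) * s⁻¹) *
              (s * Tv hab 1 * s⁻¹) := by rw [wEl]; group
          rw [e, mono_conj_tv hs, mono_conj_tv hs]
          have hsk : ∀ (x y : Fin n), y = Fin.rev x →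
              (s : Mn) ((1 : Equiv.Perm (Fin n)) x) x * 1 / (s : Mn) ((1 : Equiv.Perm (Fin n)) y) y +
              σ ((s : Mn) ((1 : Equiv.Perm (Fin n)) x) x * 1 / (s : Mn) ((1 : Equiv.Perm (Fin n)) y) y) = 0 := by
            rintro x y rfl
            obtain ⟨-, e1⟩ := mono_H hne hsH hs x
            have e2 : σ ((s : Mn) ((1 : Equiv.Perm (Fin n)) (Fin.rev x)) (Fin.rev x)) =
                ((s : Mn) ((1 : Equiv.Perm (Fin n)) x) x)⁻¹ := eq_inv_of_mul_eq_one_right e1
            have e3 : σ ((s : Mn) ((1 : Equiv.Perm (Fin n)) x) x) =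
                ((s : Mn) ((1 : Equiv.Perm (Fin n)) (Fin.rev x)) (Fin.rev x))⁻¹ := by
              have := congrArg σ e1
              rw [map_mul, h.invol, map_one] at this
              exact eq_inv_of_mul_eq_one_left this
            have hA := hs.ne_zero x
            have hB := hs.ne_zero (Fin.rev x)
            rw [map_div₀, map_mul, map_one, e2, e3]
            field_simp
            rw [CharTwo.add_self_eq_zero, mul_zero, mul_zero]
          refine mul_mem (mul_mem ((hR hab).1 hb _ (hsk _ _ hb)) ((hR' hab.symm).1 ?_ _ ?_))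
            ((hR hab).1 hb _ (hsk _ _ hb))
          · show a = Fin.rev (π a)
            rw [hb, Fin.rev_rev]
          · rw [CharTwo.neg_eq]
            exact hsk _ _ (by rw [hb, Fin.rev_rev])
      · have hra : π (Fin.rev a) = Fin.rev (π a) := (mono_H hne (hKH hmK) hm a).1
        have hb' : a ≠ Fin.rev (π a) := fun e => hb ((Fin.rev_rev (π a)).symm.trans (congrArg Fin.rev e.symm))
        refine ⟨Wp hab σ 1, Equiv.swap a (π a) * Equiv.swap (Fin.rev a) (Fin.rev (π a)), ?_, ?_,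
          wp_mono h hne hab hb, ?_, fun x hx => ?_⟩
        · exact mul_mem (mul_mem ((hR hab).2 hb _) ((hR' hab.symm).2 hb' _)) ((hR hab).2 hb _)
        · have e : s * Wp hab σ 1 * s⁻¹ = s * sh hab σ 1 * s⁻¹ * (s * sh hab.symm σ (-1⁻¹) * s⁻¹) *
              (s * sh hab σ 1 * s⁻¹) := by rw [Wp]; group
          rw [e, mono_conj_sh h hne hsH hs, mono_conj_sh h hne hsH hs]
          exact mul_mem (mul_mem ((hR hab).2 hb _) ((hR' hab.symm).2 hb' _)) ((hR hab).2 hb _)
        · rw [Equiv.Perm.mul_apply, Equiv.swap_apply_of_ne_of_ne hb (hne (π a)), Equiv.swap_apply_right]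
        · have hx1 : x ≠ Fin.rev a := fun e => ha (Fin.rev_injective (by rw [← hra, ← e, hx, e]))
          have hx2 : x ≠ Fin.rev (π a) := fun e => hx1 (π.injective (hx.trans (e.trans hra.symm)))
          rw [Equiv.Perm.mul_apply, Equiv.swap_apply_of_ne_of_ne hx1 hx2,
            Equiv.swap_apply_of_ne_of_ne (hfix x hx).1 (hfix x hx).2]
    have hlt : (ρ * π).support.card ≤ k := by
      have hsub : (ρ * π).support ⊆ π.support.erase a := by
        intro x hx
        rw [Equiv.Perm.mem_support, Equiv.Perm.mul_apply] at hx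
        rw [Finset.mem_erase, Equiv.Perm.mem_support]
        exact ⟨fun e => hx (by rw [e, hρa]), fun hx' => hx (by rw [hx', hρfix x hx'])⟩
      have := Finset.card_le_card hsub
      rw [Finset.card_erase_of_mem (Equiv.Perm.mem_support.2 ha)] at this
      omega
    have h2 := ih (w * m) _ hlt (hwm.mul hm) (mul_mem hwK hmK)
    have := mul_mem (inv_mem hswK) h2
    convert this using 1
    group

/-- an overgroup of the unipotent subgroup is normalised by the upper triangular subgroup -/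
theorem cj_le_SU (h : UFrob σ q) (hne : ∀ i : Fin n, i ≠ Fin.rev i) {K : Subgroup SLn} (hKH : K ≤ H n σ)
    (hUK : U n F ⊓ H n σ ≤ K) {g : H n σ} (hg : (mat g).BlockTriangular id) {x : SLn} (hx : x ∈ K) :
    (g : SLn) * x * (g : SLn)⁻¹ ∈ K := by
  obtain ⟨s, hs⟩ := exists_diag (σ := σ) (fun i => mat g i i) (diag_rel h hg) (diag_det hg)
  have hsm : IsMono ((s : SLn) : Mn) 1 := IsMono.of_diagonal hs
  have hinv : ((((s : H n σ) : SLn)⁻¹ : SLn) : Mn) = Matrix.diagonal fun i => (mat g i i)⁻¹ := by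
    have e : ((s : SLn) : Mn) * Matrix.diagonal (fun i => (mat g i i)⁻¹) = 1 := by
      rw [show ((s : SLn) : Mn) = Matrix.diagonal _ from hs, Matrix.diagonal_mul_diagonal]
      have hd : ∀ i, mat g i i ≠ 0 := fun i h0 => by
        have := diag_rel h hg i
        rw [h0, zero_mul] at this
        exact zero_ne_one this
      simp [mul_inv_cancel₀ (hd _)]
    calc ((((s : H n σ) : SLn)⁻¹ : SLn) : Mn)
        = ((((s : H n σ) : SLn)⁻¹ : SLn) : Mn) * (((s : SLn) : Mn) * Matrix.diagonal _) := by rw [e, mul_one]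
      _ = _ := by rw [← mul_assoc, ← Matrix.SpecialLinearGroup.coe_mul, inv_mul_cancel,
          Matrix.SpecialLinearGroup.coe_one, one_mul]
  have hd : ∀ i, mat g i i ≠ 0 := fun i h0 => by
    have := diag_rel h hg i
    rw [h0, zero_mul] at this
    exact zero_ne_one this
  have hu : (g : SLn) * (s : SLn)⁻¹ ∈ U n F ⊓ H n σ := by
    refine ⟨⟨?_, fun i => ?_⟩, (H n σ).mul_mem g.2 ((H n σ).inv_mem s.2)⟩
    · rw [Matrix.SpecialLinearGroup.coe_mul, hinv]
      exact Matrix.BlockTriangular.mul hg (Matrix.blockTriangular_diagonal _)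
    · rw [Matrix.SpecialLinearGroup.coe_mul, hinv, Matrix.mul_diagonal]
      exact mul_inv_cancel₀ (hd i)
  have hsU : ∀ v ∈ U n F ⊓ H n σ, (s : SLn) * v * (s : SLn)⁻¹ ∈ U n F ⊓ H n σ := by
    intro v hv
    refine ⟨⟨?_, fun i => ?_⟩, (H n σ).mul_mem ((H n σ).mul_mem s.2 hv.2) ((H n σ).inv_mem s.2)⟩
    · rw [Matrix.SpecialLinearGroup.coe_mul, Matrix.SpecialLinearGroup.coe_mul, hinv,
        show ((s : SLn) : Mn) = Matrix.diagonal _ from hs]
      exact ((Matrix.blockTriangular_diagonal _).mul hv.1.1).mul (Matrix.blockTriangular_diagonal _)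
    · rw [Matrix.SpecialLinearGroup.coe_mul, Matrix.SpecialLinearGroup.coe_mul, hinv, Matrix.mul_diagonal,
        show ((s : SLn) : Mn) = Matrix.diagonal _ from hs, Matrix.diagonal_mul, hv.1.2, mul_one,
        mul_inv_cancel₀ (hd i)]
  rw [show (g : SLn) * x * (g : SLn)⁻¹ = ((g : SLn) * (s : SLn)⁻¹) * ((s : SLn) * x * (s : SLn)⁻¹) *
    ((g : SLn) * (s : SLn)⁻¹)⁻¹ by group]
  refine mul_mem (mul_mem (hUK hu) ?_) (inv_mem (hUK hu))
  obtain ⟨u, u', m, π, huU, hu'U, hm, rfl⟩ := bruhat_SU h hne x (hKH hx)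
  have hmK : m ∈ K := by
    have := mul_mem (mul_mem (inv_mem (hUK huU)) hx) (inv_mem (hUK hu'U))
    convert this using 1
    group
  rw [show (s : SLn) * (u * m * u') * (s : SLn)⁻¹ = (s : SLn) * u * (s : SLn)⁻¹ *
    ((s : SLn) * m * (s : SLn)⁻¹) * ((s : SLn) * u' * (s : SLn)⁻¹) by group]
  exact mul_mem (mul_mem (hUK (hsU u huU)) (mono_conj_mem_H h hne hKH hUK s.2 hsm _ m π le_rfl hm hmK))
    (hUK (hsU u' hu'U))

/-- subgroups of odd index of `PSU_{2m}(q)`, `q` a power of two -/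
theorem pronormal_PSU_even [Fintype F] (hF : Fintype.card F = q ^ 2) (hn : 4 ≤ n) (hev : Even n)
    (X : Subgroup (Cfsg.PSU n F q)) (hX : Odd X.index) : Cfsg.IsPronormal X := by
  haveI : Fact (Nat.Prime 2) := ⟨Nat.prime_two⟩
  have hF' : Nat.card F = q ^ 2 := by rw [Nat.card_eq_fintype_card, hF]
  obtain ⟨τ, h⟩ := exists_uFrob hF'
  obtain ⟨e⟩ := exists_equiv (n := n) hF' h
  have hne : ∀ i : Fin n, i ≠ Fin.rev i := by
    intro i hi
    obtain ⟨m, hm⟩ := hev
    rw [Fin.ext_iff, Fin.val_rev] at hi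
    omega
  obtain ⟨S, hS⟩ := exists_sylow_eq (isPGroup_UH (n := n) (σ := τ) 2)
    fun g hg hk => by obtain ⟨k, hk⟩ := hk; exact pEl_mem_UH 2 h hn hg hk
  refine pronormal_all_map (p := 2) ((QuotientGroup.mk' (Subgroup.center (Cfsg.SU n F q))).comp e.symm.toMonoidHom)
    ((QuotientGroup.mk'_surjective _).comp e.symm.surjective) (pronormal_all' S fun K hK g hg => ?_) X
    (not_two_dvd hX)
  rw [hS] at hK hg
  refine Subgroup.eq_of_le_of_card_ge ?_ (Subgroup.card_map_of_injective (MulAut.conj g).injective).ge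
  rintro _ ⟨y, hy, rfl⟩
  have hK' : U n F ⊓ H n τ ≤ K.map (H n τ).subtype := fun v hv =>
    ⟨⟨v, hv.2⟩, hK (show (⟨v, hv.2⟩ : H n τ) ∈ UH n τ from hv.1), rfl⟩
  obtain ⟨z, hz, he⟩ := cj_le_SU h hne (Subgroup.map_subtype_le K) hK' (normalizes_upper h hn hg)
    (Subgroup.mem_map_of_mem _ hy)
  have e' : z = g * y * g⁻¹ := Subtype.ext (by simpa using he)
  show g * y * g⁻¹ ∈ K
  rw [← e']
  exact hz

end CfsgLib.Geometry.Pron
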