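import Cfsg.Agent.Lib.Geometry.Pron.Glue
import Cfsg.Agent.Lib.Classical.SL2Sylow
import Cfsg.Agent.Lib.Classical.GL2
import Cfsg.Agent.Lib.Involutions.SLTwoTori

/-!
Subgroups of odd index of `PSL_2(q)` when the Sylow two-subgroups are four-groups.
-/

set_option autoImplicit false

namespace CfsgLib.Geometry.Pron

open Matrix Cfsg.FgsC.Pronormal CfsgLib.Classical CfsgLib.Involutions CfsgLib.Involutions.SLTwoTori CfsgLib.GLTwo

universe u

variable {K : Type u} [Field K] [Finite K]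

local notation "SL2" => Matrix.SpecialLinearGroup (Fin 2) K
local notation "PSL2" => Matrix.ProjectiveSpecialLinearGroup (Fin 2) K
local notation "π2" => QuotientGroup.mk' (Subgroup.center (Matrix.SpecialLinearGroup (Fin 2) K))

theorem pm_one_of_center {z : SL2} (hz : z ∈ Subgroup.center SL2) :
    (z : Matrix (Fin 2) (Fin 2) K) = 1 ∨ (z : Matrix (Fin 2) (Fin 2) K) = -1 := by
  obtain ⟨r, hr, he⟩ := Matrix.SpecialLinearGroup.mem_center_iff.1 hz
  rw [Fintype.card_fin, _root_.sq_eq_one_iff] at hr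
  rcases hr with rfl | rfl
  · left; rw [← he, map_one]
  · right; rw [← he, map_neg, map_one]

theorem center_sq {z : SL2} (hz : z ∈ Subgroup.center SL2) : z ^ 2 = 1 := by
  refine Subtype.ext ?_
  rw [Matrix.SpecialLinearGroup.coe_pow, Matrix.SpecialLinearGroup.coe_one]
  rcases pm_one_of_center hz with h | h <;> simp [h]

theorem not_scalar_of_ne_one {a : PSL2} (ha : a ≠ 1) {A : SL2} (hA : π2 A = a) :
    ¬ IsScalar2 (A : Matrix (Fin 2) (Fin 2) K) := by
  rintro ⟨h01, h10, h00⟩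
  refine ha ?_
  have hc : (A : Matrix (Fin 2) (Fin 2) K) = (A 0 0) • 1 := by
    ext i j; fin_cases i <;> fin_cases j <;> simp [h01, h10, ← h00]
  rw [← hA, QuotientGroup.mk'_apply, QuotientGroup.eq_one_iff]
  refine Subgroup.mem_center_iff.2 fun g => Subtype.ext ?_
  rw [Matrix.SpecialLinearGroup.coe_mul, Matrix.SpecialLinearGroup.coe_mul, hc, Matrix.smul_mul,
    Matrix.mul_smul, Matrix.one_mul, Matrix.mul_one]

/-- lifts of commuting elements commute if one of them has odd order -/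
theorem lifts_commute {a b : PSL2} (ha : Odd (orderOf a)) (h : Commute a b) {A B : SL2}
    (hA : π2 A = a) (hB : π2 B = b) : B * A = A * B := by
  set z := B * A * B⁻¹ * A⁻¹ with hz
  have hzc : z ∈ Subgroup.center SL2 := by
    rw [← QuotientGroup.eq_one_iff]
    show π2 z = 1
    rw [hz, map_mul, map_mul, map_mul, map_inv, map_inv, hA, hB, ← h.eq]
    group
  have hzA : B * A * B⁻¹ = z * A := by rw [hz]; group
  have hAm : A ^ orderOf a ∈ Subgroup.center SL2 := by
    rw [← QuotientGroup.eq_one_iff]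
    show π2 (A ^ orderOf a) = 1
    rw [map_pow, hA, pow_orderOf_eq_one]
  have h1 : z ^ orderOf a * A ^ orderOf a = A ^ orderOf a := by
    rw [← (show Commute z A from (Subgroup.mem_center_iff.1 hzc A).symm).mul_pow, ← hzA, conj_pow,
      Subgroup.mem_center_iff.1 hAm B, mul_inv_cancel_right]
  have h2 : z = 1 := by
    obtain ⟨k, hk⟩ := ha
    have h3 : z ^ orderOf a = 1 := mul_eq_right.1 h1
    rw [hk, pow_add, pow_mul, center_sq hzc, one_pow, one_mul, pow_one] at h3
    exact h3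
  rw [h2, one_mul, mul_inv_eq_iff_eq_mul] at hzA
  exact hzA

theorem mem_cent_lift {a b : PSL2} (ha : Odd (orderOf a)) (h : Commute a b) {A B : SL2}
    (hA : π2 A = a) (hB : π2 B = b) : B ∈ Subgroup.centralizer ({A} : Set SL2) := by
  rw [Subgroup.mem_centralizer_singleton_iff]
  exact lifts_commute ha h hA hB

/-- the centraliser of a nontrivial element of odd order is abelian -/
theorem comm_of_odd {a x y : PSL2} (ha : Odd (orderOf a)) (ha1 : a ≠ 1) (hx : Commute a x)
    (hy : Commute a y) : Commute x y := by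
  obtain ⟨A, hA⟩ := QuotientGroup.mk'_surjective _ a
  obtain ⟨X, hX⟩ := QuotientGroup.mk'_surjective _ x
  obtain ⟨Y, hY⟩ := QuotientGroup.mk'_surjective _ y
  have := Fintype.ofFinite K
  have := centralizer_comm (not_scalar_of_ne_one ha1 hA) (mem_cent_lift ha hx hA hX)
    (mem_cent_lift ha hy hA hY)
  show x * y = y * x
  rw [← hX, ← hY, ← map_mul, this, map_mul]

theorem sq_neg_one (h2 : (2 : K) ≠ 0) {u : PSL2} (hu : u * u = 1) (hu1 : u ≠ 1) {U : SL2} (hU : π2 U = u) :
    ((U * U : SL2) : Matrix (Fin 2) (Fin 2) K) = -1 := by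
  have hc : U * U ∈ Subgroup.center SL2 := by
    rw [← QuotientGroup.eq_one_iff]
    show π2 (U * U) = 1
    rw [map_mul, hU, hu]
  refine (pm_one_of_center hc).resolve_left fun h => hu1 ?_
  have hU2 : U * U = 1 := Subtype.ext h
  rw [← hU, QuotientGroup.mk'_apply, QuotientGroup.eq_one_iff]
  refine Subgroup.mem_center_iff.2 fun g => Subtype.ext ?_
  rcases sl2_sq_eq_one h2 hU2 with e | e <;>
    simp [Matrix.SpecialLinearGroup.coe_mul, e]

/-- a nontrivial element of odd order centralises at most one involution -/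
theorem invol_unique (h2 : (2 : K) ≠ 0) {a u v : PSL2} (ha : Odd (orderOf a)) (ha1 : a ≠ 1)
    (hau : Commute a u) (hav : Commute a v) (hu : u * u = 1) (hu1 : u ≠ 1) (hv : v * v = 1) (hv1 : v ≠ 1) :
    u = v := by
  obtain ⟨A, hA⟩ := QuotientGroup.mk'_surjective _ a
  obtain ⟨U, hU⟩ := QuotientGroup.mk'_surjective _ u
  obtain ⟨V, hV⟩ := QuotientGroup.mk'_surjective _ v
  have := Fintype.ofFinite K
  have hc := centralizer_comm (not_scalar_of_ne_one ha1 hA) (mem_cent_lift ha hau hA hU)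
    (mem_cent_lift ha hav hA hV)
  have e : U * U = V * V := Subtype.ext ((sq_neg_one h2 hu hu1 hU).trans (sq_neg_one h2 hv hv1 hV).symm)
  have h1 : U * V⁻¹ * (U * V⁻¹) = 1 := by
    have hc' : V⁻¹ * U = U * V⁻¹ := by
      rw [inv_mul_eq_iff_eq_mul, ← mul_assoc, eq_mul_inv_iff_mul_eq]
      exact hc
    rw [mul_assoc, ← mul_assoc V⁻¹, hc', mul_assoc, ← mul_assoc U U, e]
    group
  have hz : U * V⁻¹ ∈ Subgroup.center SL2 := by
    refine Subgroup.mem_center_iff.2 fun g => Subtype.ext ?_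
    rcases sl2_sq_eq_one h2 h1 with e' | e' <;>
      rw [Matrix.SpecialLinearGroup.coe_mul g (U * V⁻¹), Matrix.SpecialLinearGroup.coe_mul (U * V⁻¹) g, e'] <;>
      simp
  rw [← QuotientGroup.eq_one_iff] at hz
  change π2 (U * V⁻¹) = 1 at hz
  rw [map_mul, map_inv, hU, hV, mul_inv_eq_one] at hz
  exact hz

/-- elements of odd order centralising an involution commute -/
theorem comm_of_invol {x y u : PSL2} (hx : Odd (orderOf x)) (hy : Odd (orderOf y))
    (hu1 : u ≠ 1) (hxu : Commute x u) (hyu : Commute y u) : Commute x y := by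
  obtain ⟨X, hX⟩ := QuotientGroup.mk'_surjective _ x
  obtain ⟨Y, hY⟩ := QuotientGroup.mk'_surjective _ y
  obtain ⟨U, hU⟩ := QuotientGroup.mk'_surjective _ u
  have hX' : X ∈ Subgroup.centralizer ({U} : Set SL2) :=
    Subgroup.mem_centralizer_singleton_iff.2 (lifts_commute hx hxu hX hU).symm
  have hY' : Y ∈ Subgroup.centralizer ({U} : Set SL2) :=
    Subgroup.mem_centralizer_singleton_iff.2 (lifts_commute hy hyu hY hU).symm
  have := Fintype.ofFinite K
  have := centralizer_comm (not_scalar_of_ne_one hu1 hU) hX' hY'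
  show x * y = y * x
  rw [← hX, ← hY, ← map_mul, this, map_mul]

/-- the facts about a four-group that are used -/
structure FourData {G : Type u} [Group G] (S : Subgroup G) : Prop where
  sq : ∀ x ∈ S, x * x = 1
  card : Nat.card S = 4
  comm : ∀ x ∈ S, ∀ y ∈ S, x * y = y * x

theorem odd_order_of_mem {G : Type u} [Group G] [Finite G] {M : Subgroup G} (hM : Odd (Nat.card M)) {x : G}
    (hx : x ∈ M) : Odd (orderOf x) := by
  have : orderOf x ∣ Nat.card M := by
    rw [← Subgroup.orderOf_mk x hx]; exact orderOf_dvd_natCard _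
  exact hM.of_dvd_nat this

theorem exists_two_invol {G : Type u} [Group G] [Finite G] {S : Subgroup G} (h : FourData S) :
    ∃ u ∈ S, ∃ v ∈ S, u ≠ 1 ∧ v ≠ 1 ∧ u ≠ v := by
  classical
  have := Fintype.ofFinite S
  have hc : (Finset.univ.erase (1 : S)).card = 3 := by
    rw [Finset.card_erase_of_mem (Finset.mem_univ _), Finset.card_univ, ← Nat.card_eq_fintype_card, h.card]
  obtain ⟨a, ha, b, hb, hab⟩ := Finset.one_lt_card.1 (by rw [hc]; norm_num : 1 < (Finset.univ.erase (1 : S)).card)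
  exact ⟨a, a.2, b, b.2, fun e => (Finset.mem_erase.1 ha).1 (Subtype.ext e),
    fun e => (Finset.mem_erase.1 hb).1 (Subtype.ext e), fun e => hab (Subtype.ext e)⟩

/-- a nontrivial abelian subgroup of odd order normalised by a four-group lies in the centraliser of one of
its involutions -/
theorem abelian_inv_le (h2 : (2 : K) ≠ 0) {S L : Subgroup PSL2} (hS : FourData S) (hL : Odd (Nat.card L))
    (hLab : ∀ x ∈ L, ∀ y ∈ L, x * y = y * x) (hinv : ∀ s ∈ S, ∀ x ∈ L, s * x * s⁻¹ ∈ L) (hne : L ≠ ⊥) :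
    ∃ u ∈ S, u ≠ 1 ∧ ∀ x ∈ L, Commute x u := by
  obtain ⟨u, hu, v, hv, hu1, hv1, huv⟩ := exists_two_invol hS
  have hw1 : u * v ≠ 1 := fun e => huv (by rw [eq_inv_of_mul_eq_one_left e, inv_eq_of_mul_eq_one_right (hS.sq v hv)])
  suffices hfix : ∃ s ∈ S, s ≠ 1 ∧ ∃ x ∈ L, x ≠ 1 ∧ Commute x s by
    obtain ⟨s, hs, hs1, x, hx, hx1, hxs⟩ := hfix
    exact ⟨s, hs, hs1, fun y hy =>
      comm_of_odd (odd_order_of_mem hL hx) hx1 (hLab x hx y hy) hxs⟩
  by_contra hno
  push_neg at hno
  have hinvert : ∀ s ∈ S, s ≠ 1 → ∀ y ∈ L, s * y * s⁻¹ = y⁻¹ := by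
    intro s hs hs1 y hy
    have hss : s⁻¹ = s := inv_eq_of_mul_eq_one_right (hS.sq s hs)
    have h' := hinv s hs y hy
    refine eq_inv_of_mul_eq_one_right ?_
    by_contra hne'
    refine hno s hs hs1 _ (mul_mem hy h') hne' ?_
    show y * (s * y * s⁻¹) * s = s * (y * (s * y * s⁻¹))
    conv_rhs => rw [hLab y hy _ h']
    rw [hss]
    simp only [← mul_assoc, hS.sq s hs, one_mul]
    rw [mul_assoc _ s s, hS.sq s hs, mul_one]
  refine hne ((Subgroup.eq_bot_iff_forall _).2 fun y hy => ?_)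
  by_contra hy1
  refine hno (u * v) (mul_mem hu hv) hw1 y hy hy1 ?_
  show y * (u * v) = u * v * y
  have e1 : u * v * y * (u * v)⁻¹ = y := by
    calc u * v * y * (u * v)⁻¹ = u * (v * y * v⁻¹) * u⁻¹ := by group
      _ = y := by rw [hinvert v hv hv1 y hy, hinvert u hu hu1 _ (inv_mem hy), inv_inv]
  nth_rewrite 1 [← e1]
  group

/-- a subgroup of odd order normalised by a four-group has a Sylow subgroup normalised by it -/
theorem exists_inv_sylow {G : Type u} [Group G] [Finite G] {S M : Subgroup G} (hS2 : IsPGroup 2 S)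
    (hM : Odd (Nat.card M)) (hinv : ∀ s ∈ S, ∀ x ∈ M, s * x * s⁻¹ ∈ M) (r : ℕ) [Fact r.Prime] :
    ∃ R : Sylow r M, ∀ s ∈ S, ∀ x ∈ ((R : Subgroup M).map M.subtype), s * x * s⁻¹ ∈ (R : Subgroup M).map M.subtype := by
  haveI : Fact (Nat.Prime 2) := ⟨Nat.prime_two⟩
  have hSN : S ≤ Subgroup.normalizer (M : Set G) := fun s hs => Subgroup.mem_normalizer_iff.2 fun x =>
    ⟨hinv s hs x, fun h => by simpa [mul_assoc] using hinv s⁻¹ (inv_mem hs) _ h⟩
  set N := Subgroup.normalizer (M : Set G) with hN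
  set M' : Subgroup N := M.subgroupOf N with hM'
  haveI : M'.Normal := Subgroup.normal_in_normalizer
  have hcM : Nat.card M' = Nat.card M := Nat.card_congr (Subgroup.subgroupOfEquivOfLe Subgroup.le_normalizer).toEquiv
  obtain ⟨R0⟩ : Nonempty (Sylow r M') := inferInstance
  set R1 := (R0 : Subgroup M').map M'.subtype with hR1
  set H := Subgroup.normalizer (R1 : Set N) with hH
  have hsup : H ⊔ M' = ⊤ := Sylow.normalizer_sup_eq_top R0
  have hidx : ¬ 2 ∣ H.index := by
    intro hd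
    have h1 := Subgroup.relIndex_sup_right H M'
    rw [hsup, Subgroup.relIndex_top_right] at h1
    have e1 := Subgroup.card_mul_index M'
    have e2 := Subgroup.card_mul_index H
    have e3 := Subgroup.card_mul_index (M'.subgroupOf H)
    rw [← Subgroup.relIndex, ← h1] at e3
    have e4 : Nat.card (M'.subgroupOf H) * H.index = Nat.card M' := by
      have hpos : 0 < M'.index := Nat.pos_of_ne_zero Subgroup.index_ne_zero_of_finite
      refine Nat.eq_of_mul_eq_mul_right hpos ?_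
      rw [e1, mul_right_comm, e3, e2]
    have : 2 ∣ Nat.card M := hcM ▸ e4 ▸ dvd_mul_of_dvd_right hd _
    exact (Nat.not_even_iff_odd.2 hM) (even_iff_two_dvd.2 this)
  obtain ⟨P, hP⟩ := exists_sylow_le (p := 2) hidx
  obtain ⟨Q, hQ⟩ := (hS2.comap_of_injective N.subtype N.subtype_injective : IsPGroup 2 (S.subgroupOf N)).exists_le_sylow
  obtain ⟨c, hc⟩ := exists_eq_cj P Q
  set R2 := cj c R1 with hR2
  have hnorm : ∀ s ∈ S, ∀ x ∈ R2.map N.subtype, s * x * s⁻¹ ∈ R2.map N.subtype := by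
    rintro s hs _ ⟨y, hy, rfl⟩
    have h1 : (⟨s, hSN hs⟩ : N) ∈ cj c (P : Subgroup N) := hc ▸ hQ (show (⟨s, hSN hs⟩ : N).1 ∈ S from hs)
    have h2 : (⟨s, hSN hs⟩ : N) * y * (⟨s, hSN hs⟩ : N)⁻¹ ∈ R2 := by
      simp only [SetLike.mem_coe, hR2, mem_cj] at h1 hy ⊢
      have := (Subgroup.mem_normalizer_iff.1 (hP h1) (c⁻¹ * y * c)).1 hy
      convert this using 1
      group
    exact ⟨_, h2, rfl⟩
  have hle : R2.map N.subtype ≤ M := by
    rintro _ ⟨y, hy, rfl⟩
    have hy' : c⁻¹ * y * c ∈ M' := Subgroup.map_subtype_le _ (mem_cj.1 hy)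
    have := (inferInstance : M'.Normal).conj_mem _ hy' c
    rw [show c * (c⁻¹ * y * c) * c⁻¹ = y by group] at this
    exact this
  have hcard : Nat.card ((R2.map N.subtype).subgroupOf M) = Nat.card R0 := by
    rw [Nat.card_congr (Subgroup.subgroupOfEquivOfLe hle).toEquiv,
      Subgroup.card_map_of_injective N.subtype_injective,
      Subgroup.card_map_of_injective (MulAut.conj c).injective, hR1,
      Subgroup.card_map_of_injective M'.subtype_injective]
  refine ⟨Sylow.ofCard ((R2.map N.subtype).subgroupOf M) (by rw [hcard, R0.card_eq_multiplicity, hcM]), ?_⟩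
  have e : ((R2.map N.subtype).subgroupOf M).map M.subtype = R2.map N.subtype :=
    Subgroup.map_subgroupOf_eq_of_le hle
  show ∀ s ∈ S, ∀ x ∈ ((R2.map N.subtype).subgroupOf M).map M.subtype,
    s * x * s⁻¹ ∈ ((R2.map N.subtype).subgroupOf M).map M.subtype
  rw [e]
  exact hnorm

/-- a subgroup of odd order normalised by a four-group lies in the centraliser of one of its involutions -/
theorem odd_inv_le (h2 : (2 : K) ≠ 0) {S M : Subgroup PSL2} (hS : FourData S) (hM : Odd (Nat.card M))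
    (hinv : ∀ s ∈ S, ∀ x ∈ M, s * x * s⁻¹ ∈ M) : ∃ u ∈ S, u ≠ 1 ∧ ∀ x ∈ M, Commute x u := by
  obtain ⟨u0, hu0, -, -, hu01, -, -⟩ := exists_two_invol hS
  rcases eq_or_ne M ⊥ with rfl | hne
  · refine ⟨u0, hu0, hu01, fun x hx => ?_⟩
    rw [Subgroup.mem_bot.1 hx]
    exact Commute.one_left _
  have hS2 : IsPGroup 2 S := fun x => ⟨1, Subtype.ext (by
    show (x : PSL2) ^ 2 ^ 1 = 1
    rw [pow_one, sq, hS.sq _ x.2])⟩
  refine abelian_inv_le h2 hS hM ?_ hinv hne
  -- `M` is abelian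
  intro a ha b hb
  suffices key : orderOf ((⟨a, ha⟩ : M) * ⟨b, hb⟩ * (⟨a, ha⟩ : M)⁻¹ * (⟨b, hb⟩ : M)⁻¹) = 1 by
    have h := congrArg Subtype.val (orderOf_eq_one_iff.1 key)
    simp only [Subgroup.coe_mul, Subgroup.coe_inv, Subgroup.coe_one] at h
    rw [mul_inv_eq_one, mul_inv_eq_iff_eq_mul] at h
    exact h
  by_contra hne1
  obtain ⟨r, hr, hrd⟩ := Nat.exists_prime_and_dvd hne1
  haveI : Fact r.Prime := ⟨hr⟩
  obtain ⟨R, hR⟩ := exists_inv_sylow hS2 hM hinv r
  have hrM : r ∣ Nat.card M := hrd.trans (orderOf_dvd_natCard _)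
  set R' := (R : Subgroup M).map M.subtype with hR'
  have hR'le : R' ≤ M := Subgroup.map_subtype_le _
  have hRne : R' ≠ ⊥ := by
    intro h
    rw [hR', Subgroup.map_eq_bot_iff_of_injective _ M.subtype_injective] at h
    exact R.ne_bot_of_dvd_card hrM h
  -- its centre
  have hR'p : IsPGroup r R' := R.isPGroup'.map _
  let Z : Subgroup PSL2 := (Subgroup.center R').map R'.subtype
  have hZle : Z ≤ R' := Subgroup.map_subtype_le _
  have hZne : Z ≠ ⊥ := by
    haveI : Nontrivial R' := (Subgroup.nontrivial_iff_ne_bot _).2 hRne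
    haveI := hR'p.center_nontrivial
    rw [Ne, Subgroup.map_eq_bot_iff_of_injective _ R'.subtype_injective, ← Ne, ← Subgroup.nontrivial_iff_ne_bot]
    infer_instance
  have hZc : ∀ z ∈ Z, ∀ x ∈ R', x * z = z * x := by
    rintro _ ⟨z, hz, rfl⟩ x hx
    exact congrArg Subtype.val (Subgroup.mem_center_iff.1 hz ⟨x, hx⟩)
  have hZinv : ∀ s ∈ S, ∀ z ∈ Z, s * z * s⁻¹ ∈ Z := by
    intro s hs z hz
    refine ⟨⟨_, hR s hs z (hZle hz)⟩, Subgroup.mem_center_iff.2 fun x => Subtype.ext ?_, rfl⟩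
    show (x : PSL2) * (s * z * s⁻¹) = s * z * s⁻¹ * x
    have hx : s⁻¹ * x * s ∈ R' := by simpa using hR s⁻¹ (inv_mem hs) x x.2
    calc (x : PSL2) * (s * z * s⁻¹) = s * ((s⁻¹ * x * s) * z) * s⁻¹ := by group
      _ = s * (z * (s⁻¹ * x * s)) * s⁻¹ := by rw [hZc z hz _ hx]
      _ = _ := by group
  have hoddM : ∀ x ∈ M, Odd (orderOf x) := fun x hx => odd_order_of_mem hM hx
  obtain ⟨u, hu, hu1, hZu⟩ := abelian_inv_le h2 hS
    (hM.of_dvd_nat (Subgroup.card_dvd_of_le (hZle.trans hR'le))) (fun x hx y hy => hZc y hy x (hZle hx)) hZinv hZne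
  obtain ⟨z0, hz0, hz01⟩ : ∃ z ∈ Z, z ≠ 1 := by
    by_contra h
    push_neg at h
    exact hZne ((Subgroup.eq_bot_iff_forall _).2 h)
  have hz0o := hoddM z0 (hR'le (hZle hz0))
  have hRu : ∀ x ∈ R', Commute x u := fun x hx =>
    comm_of_odd hz0o hz01 (hZc z0 hz0 x hx).symm (hZu z0 hz0)
  -- the normaliser centralises
  have hnc : Subgroup.normalizer ((R : Subgroup M) : Set M) ≤ Subgroup.centralizer ((R : Subgroup M) : Set M) := by
    intro n hn
    rw [Subgroup.mem_centralizer_iff]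
    intro x hx
    by_cases hx1 : x = 1
    · subst hx1; simp
    have hxR : (x : PSL2) ∈ R' := ⟨x, hx, rfl⟩
    have hnx : ((n⁻¹ * x * n : M) : PSL2) ∈ R' := by
      show M.subtype (n⁻¹ * x * n) ∈ _
      refine Subgroup.mem_map_of_mem M.subtype ?_
      have := (Subgroup.mem_normalizer_iff.1 (inv_mem hn) x).1 hx
      rwa [inv_inv] at this
    have hcn : Commute (x : PSL2) ((n : PSL2) * u * (n : PSL2)⁻¹) := by
      have h := hRu _ hnx
      simp only [Subgroup.coe_mul, Subgroup.coe_inv] at h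
      show (x : PSL2) * ((n : PSL2) * u * (n : PSL2)⁻¹) = (n : PSL2) * u * (n : PSL2)⁻¹ * x
      calc (x : PSL2) * ((n : PSL2) * u * (n : PSL2)⁻¹)
          = n * (((n : PSL2)⁻¹ * x * n) * u) * (n : PSL2)⁻¹ := by group
        _ = n * (u * ((n : PSL2)⁻¹ * x * n)) * (n : PSL2)⁻¹ := by rw [h.eq]
        _ = _ := by group
    have hxo := hoddM x x.2
    have hnu : (n : PSL2) * u * (n : PSL2)⁻¹ = u :=
      invol_unique h2 hxo (fun e => hx1 (Subtype.ext e)) hcn (hRu _ hxR)
        (by rw [show ((n : PSL2) * u * (n : PSL2)⁻¹) * (n * u * (n : PSL2)⁻¹) = n * (u * u) * (n : PSL2)⁻¹ by group,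
          hS.sq u hu, mul_one, mul_inv_cancel])
        (fun e => hu1 (by rwa [mul_inv_eq_one, mul_eq_left] at e)) (hS.sq u hu) hu1
    have := comm_of_invol hxo (hoddM n n.2) hu1 (hRu _ hxR) (mul_inv_eq_iff_eq_mul.1 hnu)
    exact Subtype.ext this.eq
  have hker : (⟨a, ha⟩ : M) * ⟨b, hb⟩ * (⟨a, ha⟩ : M)⁻¹ * (⟨b, hb⟩ : M)⁻¹ ∈
      (MonoidHom.transferSylow R hnc).ker := by
    rw [MonoidHom.mem_ker, map_mul, map_mul, map_mul, map_inv, map_inv]
    set A := MonoidHom.transferSylow R hnc ⟨a, ha⟩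
    set B := MonoidHom.transferSylow R hnc ⟨b, hb⟩
    have : A * B = B * A := Subtype.ext ((Subgroup.mem_centralizer_iff.1 (hnc (Subgroup.le_normalizer A.2)) _ B.2).symm)
    rw [this]; group
  refine MonoidHom.not_dvd_card_ker_transferSylow R hnc (hrd.trans ?_)
  rw [← Subgroup.orderOf_mk _ hker]
  exact orderOf_dvd_natCard _

/-- the normaliser of a self-centralising four-group that is a Sylow subgroup -/
theorem four_normalizer {G : Type u} [Group G] [Finite G] [Fact (Nat.Prime 2)] (P : Sylow 2 G)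
    (hD : FourData (P : Subgroup G))
    (hcent : ∀ x : G, (∀ s ∈ (P : Subgroup G), Commute x s) → x ∈ (P : Subgroup G))
    {g : G} (hg : g ∈ Subgroup.normalizer ((P : Subgroup G) : Set G)) (hgP : g ∉ (P : Subgroup G)) :
    (∀ n ∈ Subgroup.normalizer ((P : Subgroup G) : Set G), n ∉ (P : Subgroup G) →
        ∀ J : Subgroup G, (P : Subgroup G) ≤ J → n ∈ J → g ∈ J) ∧
      ∀ u ∈ (P : Subgroup G), u ≠ 1 → g * u * g⁻¹ ≠ u := by
  classical
  set N := Subgroup.normalizer ((P : Subgroup G) : Set G) with hN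
  let I := {x : (P : Subgroup G) // x ≠ 1}
  let act : N → I → I := fun n x =>
    ⟨⟨(n : G) * x.1 * (n : G)⁻¹, (Subgroup.mem_normalizer_iff.1 n.2 _).1 x.1.2⟩,
      fun e => x.2 (Subtype.ext (by
        have e' := congrArg Subtype.val e
        simp only [Subgroup.coe_one] at e'
        rw [mul_inv_eq_one, mul_eq_left] at e'
        exact e'))⟩
  let φ : N →* Equiv.Perm I :=
    { toFun := fun n =>
        { toFun := act n
          invFun := act n⁻¹
          left_inv := fun x => by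
            refine Subtype.ext (Subtype.ext ?_)
            simp [act, mul_assoc]
          right_inv := fun x => by
            refine Subtype.ext (Subtype.ext ?_)
            simp [act, mul_assoc] }
      map_one' := by ext x; simp [act]
      map_mul' := fun a b => by ext x; simp [act, mul_assoc] }
  have hker : ∀ n : N, φ n = 1 → (n : G) ∈ (P : Subgroup G) := by
    intro n hn
    refine hcent _ fun s hs => ?_
    rcases eq_or_ne s 1 with rfl | hs1
    · exact Commute.one_right _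
    have := congrArg (fun f : Equiv.Perm I =>
      (((f ⟨⟨s, hs⟩, fun e => hs1 (congrArg Subtype.val e)⟩ : I) : (P : Subgroup G)) : G)) hn
    simp [φ, act] at this
    exact mul_inv_eq_iff_eq_mul.1 this
  have hI : Nat.card I = 3 := by
    have hPc : Nat.card (P : Subgroup G) = 4 := hD.card
    have := Fintype.ofFinite (P : Subgroup G)
    rw [Nat.card_eq_fintype_card, Fintype.card_subtype_compl, Fintype.card_subtype_eq,
      ← Nat.card_eq_fintype_card, hPc]
  have hrange : ∀ n : N, φ n ≠ 1 → Subgroup.zpowers (φ n) = φ.range ∧ (φ n) ^ 3 = 1 := by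
    intro n hn
    have h6 : Nat.card φ.range ∣ 6 := by
      have := Subgroup.card_subgroup_dvd_card φ.range
      rwa [Nat.card_perm, hI] at this
    have hodd : ¬ 2 ∣ Nat.card φ.range := by
      rw [← Subgroup.index_ker]
      intro hd
      have hle : (P : Subgroup G).subgroupOf N ≤ φ.ker := fun x hx => MonoidHom.mem_ker.2 (by
        refine Equiv.ext fun y => Subtype.ext (Subtype.ext ?_)
        have hxy := hD.comm _ (show (x : G) ∈ (P : Subgroup G) from hx) _ y.1.2
        simp [φ, act, hxy])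
      exact (P.subtype (Subgroup.le_normalizer)).not_dvd_index (hd.trans (Subgroup.index_dvd_of_le hle))
    have h3 : Nat.card φ.range = 3 := by
      have hcases : ∀ d : ℕ, d ≤ 6 → d ∣ 6 → ¬ 2 ∣ d → d ≠ 1 → d = 3 := by decide
      refine hcases _ (Nat.le_of_dvd (by norm_num) h6) h6 hodd fun h1 => hn ?_
      have hm : φ n ∈ φ.range := ⟨n, rfl⟩
      rw [Subgroup.card_eq_one.1 h1] at hm
      exact Subgroup.mem_bot.1 hm
    refine ⟨Subgroup.eq_of_le_of_card_ge (Subgroup.zpowers_le.2 ⟨n, rfl⟩) ?_, ?_⟩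
    · rw [h3, Nat.card_zpowers]
      have hd : orderOf (φ n) ∣ 3 := by
        rw [← h3, ← Subgroup.orderOf_mk _ (show φ n ∈ φ.range from ⟨n, rfl⟩)]
        exact orderOf_dvd_natCard _
      exact ((Nat.dvd_prime Nat.prime_three).1 hd).resolve_left (fun h => hn (orderOf_eq_one_iff.1 h)) ▸ le_rfl
    · have : φ n ∈ φ.range := ⟨n, rfl⟩
      have h' := pow_card_eq_one' (x := (⟨_, this⟩ : φ.range))
      rw [h3] at h'
      exact congrArg Subtype.val h'
  refine ⟨fun n hn hnP J hPJ hnJ => ?_, fun u hu hu1 he => ?_⟩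
  · have h1 : φ ⟨n, hn⟩ ≠ 1 := fun h => hnP (hker _ h)
    have : φ ⟨g, hg⟩ ∈ Subgroup.zpowers (φ ⟨n, hn⟩) := (hrange _ h1).1.symm ▸ ⟨_, rfl⟩
    obtain ⟨j, hj⟩ := Subgroup.mem_zpowers_iff.1 this
    have hk : φ (⟨g, hg⟩ * (⟨n, hn⟩ ^ j)⁻¹) = 1 := by rw [map_mul, map_inv, map_zpow, hj, mul_inv_cancel]
    have := mul_mem (hPJ (hker _ hk)) (zpow_mem hnJ j)
    simp at this
    exact this
  · have hgφ : φ ⟨g, hg⟩ ≠ 1 := fun h => hgP (hker _ h)
    have hfix : φ ⟨g, hg⟩ ⟨⟨u, hu⟩, fun e => hu1 (congrArg Subtype.val e)⟩ =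
        ⟨⟨u, hu⟩, fun e => hu1 (congrArg Subtype.val e)⟩ := Subtype.ext (Subtype.ext he)
    have hcube := (hrange _ hgφ).2
    set e := φ ⟨g, hg⟩
    have := Fintype.ofFinite I
    have hsupp : e.support.card ≤ 2 := by
      have hss : e.support ⊆ Finset.univ.erase ⟨⟨u, hu⟩, fun e => hu1 (congrArg Subtype.val e)⟩ := by
        intro x hx
        refine Finset.mem_erase.2 ⟨fun e' => ?_, Finset.mem_univ _⟩
        exact (Equiv.Perm.mem_support.1 hx) (e' ▸ hfix)
      have := Finset.card_le_card hss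
      rw [Finset.card_erase_of_mem (Finset.mem_univ _), Finset.card_univ, ← Nat.card_eq_fintype_card, hI] at this
      exact this
    have h2s := Equiv.Perm.two_le_card_support_of_ne_one hgφ
    obtain ⟨x, y, hxy, hsw⟩ := Equiv.Perm.card_support_eq_two.1 (le_antisymm hsupp h2s)
    refine hgφ ?_
    rw [hsw] at hcube ⊢
    rwa [pow_succ, sq, Equiv.swap_mul_self, one_mul] at hcube

/-- the normal complement, read in the big group -/
theorem exists_odd_part {G : Type u} [Group G] [Finite G] [Fact (Nat.Prime 2)] (P : Sylow 2 G) {J : Subgroup G}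
    (hPJ : (P : Subgroup G) ≤ J)
    (hnc : Subgroup.normalizer ((P.subtype hPJ : Subgroup J) : Set J) ≤
      Subgroup.centralizer ((P.subtype hPJ : Subgroup J) : Set J)) :
    ∃ M : Subgroup G, Odd (Nat.card M) ∧ (∀ s ∈ (P : Subgroup G), ∀ x ∈ M, s * x * s⁻¹ ∈ M) ∧
      (∀ x ∈ J, Odd (orderOf x) → x ∈ M) ∧ ∀ h ∈ J, ∃ m ∈ M, ∃ s ∈ (P : Subgroup G), m * s = h := by
  suffices key : ∀ N : Subgroup J, N.Normal → ¬ 2 ∣ Nat.card N →
      Subgroup.IsComplement' N (P.subtype hPJ : Subgroup J) →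
      ∃ M : Subgroup G, Odd (Nat.card M) ∧ (∀ s ∈ (P : Subgroup G), ∀ x ∈ M, s * x * s⁻¹ ∈ M) ∧
        (∀ x ∈ J, Odd (orderOf x) → x ∈ M) ∧ ∀ h ∈ J, ∃ m ∈ M, ∃ s ∈ (P : Subgroup G), m * s = h from
    key _ (MonoidHom.normal_ker _) (MonoidHom.not_dvd_card_ker_transferSylow _ hnc)
      (MonoidHom.ker_transferSylow_isComplement' _ hnc)
  intro N hN h2N hcomp
  refine ⟨N.map J.subtype, ?_, ?_, ?_, ?_⟩
  · rw [Subgroup.card_map_of_injective J.subtype_injective, ← Nat.not_even_iff_odd, even_iff_two_dvd]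
    exact h2N
  · rintro s hs _ ⟨x, hx, rfl⟩
    exact ⟨⟨s, hPJ hs⟩ * x * ⟨s, hPJ hs⟩⁻¹, hN.conj_mem x hx _, rfl⟩
  · intro x hx ho
    refine ⟨⟨x, hx⟩, SetLike.mem_coe.2 ?_, rfl⟩
    haveI := hN
    obtain ⟨k, hk⟩ : ∃ k, Nat.card (J ⧸ N) = 2 ^ k := by
      obtain ⟨k, hk⟩ := IsPGroup.iff_card.1 (P.subtype hPJ).isPGroup'
      refine ⟨k, ?_⟩
      rw [← hk, ← Subgroup.index_eq_card]
      exact hcomp.symm.index_eq_card
    rw [← QuotientGroup.eq_one_iff, ← orderOf_eq_one_iff]
    refine Nat.eq_one_of_dvd_coprimes (Nat.Coprime.pow_left k (Nat.coprime_two_left.2 ho))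
      (hk ▸ orderOf_dvd_natCard _) ?_
    have := orderOf_map_dvd (QuotientGroup.mk' N) ⟨x, hx⟩
    rwa [Subgroup.orderOf_mk] at this
  · intro h hh
    obtain ⟨⟨m, s⟩, hms, -⟩ := hcomp.existsUnique ⟨h, hh⟩
    exact ⟨(m : J), ⟨m, m.2, rfl⟩, (s : J), s.2, congrArg Subtype.val hms⟩

set_option maxHeartbeats 1000000 in
/-- subgroups of odd index, four-group case -/
theorem pronormal_PSL2_klein (hq : Nat.card K % 8 = 3 ∨ Nat.card K % 8 = 5)
    (H₀ : Subgroup PSL2) (hH₀ : Odd H₀.index) : Cfsg.IsPronormal H₀ := by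
  classical
  haveI : Fact (Nat.Prime 2) := ⟨Nat.prime_two⟩
  have h2 : (2 : K) ≠ 0 := two_ne_zero_of_odd_card (Nat.odd_iff.2 (by omega))
  obtain ⟨P⟩ : Nonempty (Sylow 2 PSL2) := inferInstance
  haveI hK4 := sylow_two_PSL2_isKleinFour hq P
  have hD : FourData (P : Subgroup PSL2) := by
    have hsq : ∀ x ∈ (P : Subgroup PSL2), x * x = 1 := fun x hx => by
      have := Monoid.pow_exponent_eq_one (⟨x, hx⟩ : (P : Subgroup PSL2))
      rw [hK4.exponent_two, sq] at this
      exact congrArg Subtype.val this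
    refine ⟨hsq, hK4.card_four, fun x hx y hy => ?_⟩
    have hi : ∀ z ∈ (P : Subgroup PSL2), z⁻¹ = z := fun z hz => inv_eq_of_mul_eq_one_right (hsq z hz)
    calc x * y = (x * y)⁻¹ := (hi _ (mul_mem hx hy)).symm
      _ = y * x := by rw [_root_.mul_inv_rev, hi x hx, hi y hy]
  have hcent : ∀ x : PSL2, (∀ s ∈ (P : Subgroup PSL2), Commute x s) → x ∈ (P : Subgroup PSL2) := by
    intro x hx
    obtain ⟨k, m, hm, hkm⟩ := Nat.exists_eq_two_pow_mul_odd (orderOf_pos x).ne'
    have h2k : x ^ 2 ^ k = 1 := by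
      by_contra hne
      obtain ⟨u, hu, v, hv, hu1, hv1, huv⟩ := exists_two_invol hD
      refine huv (invol_unique h2 ?_ hne ((hx u hu).pow_left _) ((hx v hv).pow_left _) (hD.sq u hu) hu1
        (hD.sq v hv) hv1)
      refine hm.of_dvd_nat (orderOf_dvd_of_pow_eq_one ?_)
      rw [← pow_mul, ← hkm, pow_orderOf_eq_one]
    have hsup : IsPGroup 2 (Subgroup.zpowers x ⊔ (P : Subgroup PSL2) : Subgroup PSL2) := by
      refine (IsPGroup.to_sup_of_normal_right' ?_ P.isPGroup' ?_)
      · obtain ⟨l, -, hl⟩ := (Nat.dvd_prime_pow Nat.prime_two).1 (orderOf_dvd_of_pow_eq_one h2k)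
        exact IsPGroup.of_card (n := l) (by rw [Nat.card_zpowers, hl])
      · refine Subgroup.zpowers_le.2 (Subgroup.mem_normalizer_iff.2 fun s => ?_)
        constructor
        · intro hs
          rwa [(hx s hs).eq, mul_inv_cancel_right]
        · intro hs
          have := (hx _ hs).eq
          have e : s = x⁻¹ * (x * s * x⁻¹) * x := by group
          rw [e, mul_assoc, ← (hx _ hs).eq, inv_mul_cancel_left]
          exact hs
    rw [← P.is_maximal' hsup le_sup_right]
    exact Subgroup.mem_sup_left (Subgroup.mem_zpowers x)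
  refine pronormal_all P (fun H hPH g hg => ?_) H₀ (not_two_dvd hH₀)
  set J := H ⊔ cj g H with hJ
  by_cases hgJ : g ∈ J
  · exact ⟨g, hgJ, rfl⟩
  refine ⟨1, one_mem _, ?_⟩
  rw [cj_one]
  have hPJ : (P : Subgroup PSL2) ≤ J := hPH.trans le_sup_left
  obtain ⟨hfus, hmove⟩ := four_normalizer P hD hcent hg fun h => hgJ (hPJ h)
  set N := Subgroup.normalizer ((P : Subgroup PSL2) : Set PSL2) with hN
  -- normal complement in the join
  have hnc : Subgroup.normalizer ((P.subtype hPJ : Subgroup J) : Set J) ≤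
      Subgroup.centralizer ((P.subtype hPJ : Subgroup J) : Set J) := by
    intro n hn
    have hnN : (n : PSL2) ∈ N := by
      rw [hN, Subgroup.mem_normalizer_iff]
      intro x
      constructor
      · intro hx
        exact (Subgroup.mem_normalizer_iff.1 hn ⟨x, hPJ hx⟩).1 hx
      · intro hx
        have h := hPJ hx
        have hxJ : x ∈ J := by
          have := mul_mem (mul_mem (inv_mem n.2) h) n.2
          simpa [mul_assoc] using this
        exact (Subgroup.mem_normalizer_iff.1 hn ⟨x, hxJ⟩).2 hx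
    by_cases h : (n : PSL2) ∈ (P : Subgroup PSL2)
    · rw [Subgroup.mem_centralizer_iff]
      intro x hx
      exact Subtype.ext (hD.comm _ hx _ h)
    · exact absurd (hfus _ hnN h J hPJ n.2) hgJ
  obtain ⟨M, hMo, hMinv, hodd_mem, hdec⟩ := exists_odd_part P hPJ hnc
  obtain ⟨u, hu, hu1, hMu⟩ := odd_inv_le h2 hD hMo hMinv
  have hne : g * u * g⁻¹ ≠ u := hmove u hu hu1
  have hHP : H ≤ (P : Subgroup PSL2) := by
    intro h hh
    obtain ⟨m, hmM, s, hs, hms'⟩ := hdec h ((le_sup_left : H ≤ J) hh)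
    have hmH : m ∈ H := by
      have := mul_mem hh (inv_mem (hPH hs))
      rwa [← hms', mul_inv_cancel_right] at this
    set b := g * m * g⁻¹ with hb
    have hbo : Odd (orderOf b) := by
      rw [hb, show g * m * g⁻¹ = MulAut.conj g m from rfl, MulEquiv.orderOf_eq]
      exact odd_order_of_mem hMo hmM
    have hbM : b ∈ M := hodd_mem b ((le_sup_right : cj g H ≤ J) ⟨_, hmH, rfl⟩) hbo
    have hb1 : b = 1 := by
      by_contra hb1
      refine hne (invol_unique h2 hbo hb1 ?_ (hMu b hbM) ?_ ?_ (hD.sq u hu) hu1)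
      · show b * (g * u * g⁻¹) = g * u * g⁻¹ * b
        rw [hb]
        calc g * m * g⁻¹ * (g * u * g⁻¹) = g * (m * u) * g⁻¹ := by group
          _ = g * (u * m) * g⁻¹ := by rw [(hMu _ hmM).eq]
          _ = _ := by group
      · rw [show g * u * g⁻¹ * (g * u * g⁻¹) = g * (u * u) * g⁻¹ by group, hD.sq u hu, mul_one, mul_inv_cancel]
      · intro e; rw [mul_inv_eq_one, mul_eq_left] at e; exact hu1 e
    rw [hb, mul_inv_eq_one, mul_eq_left] at hb1
    rw [← hms', hb1, one_mul]
    exact hs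
  have hHeq : H = (P : Subgroup PSL2) := le_antisymm hHP hPH
  rw [hHeq]
  exact cj_eq_self_iff.2 hg

end CfsgLib.Geometry.Pron
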