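import Cfsg.Agent.Lib.Geometry.Pron.TowerInst
import Cfsg.Agent.Lib.Geometry.Pron.PSL2Klein
import Cfsg.Agent.Lib.Geometry.Pron.OverSU

/-!
Subgroups of odd index of `PSL_2(q)`, `q` odd, and the assembled statements.
-/

set_option autoImplicit false

namespace CfsgLib.Geometry.Pron

open Matrix CfsgLib.Classical CfsgLib.Involutions

universe u

variable {K : Type u} [Field K] [Finite K]

local notation "M2" => Matrix (Fin 2) (Fin 2) K

omit [Finite K] in
theorem isScalar_of_eq {g : GL (Fin 2) K} {r : K} (h : (g : M2) = r • (1 : M2)) :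
    (g : M2) 0 0 = (g : M2) 1 1 ∧ (g : M2) 1 0 = 0 := by
  rw [h]; simp

theorem good_two {Q : Prop} {σ : K →+* K} (B : Base Q σ) {e : GL (Fin 2) K} (he : B.Two e)
    (hdet : (e : M2).det = 1) (hsq : ∀ r : K, ((e * e : GL (Fin 2) K) : M2) ≠ r • (1 : M2)) :
    Good Q σ B.R :=
  ⟨B.isPGroup, B.tower.le, B.tower.scal_mem, fun n hn h => by
    have hd : B.Two B.d := ⟨B.d_mem, B.d_comm, B.d_two⟩
    exact B.norm_of hn he.2.1 hsq (h _ (B.two_mem he) hdet) hd
      (h _ ⟨_, hd, Or.inr rfl⟩ (by rw [Units.val_mul, det_mul]; exact B.d_det))⟩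

theorem pronormal_PSL2_odd (h2 : (2 : K) ≠ 0)
    (H : Subgroup (Matrix.ProjectiveSpecialLinearGroup (Fin 2) K)) (hH : Odd H.index) : Cfsg.IsPronormal H := by
  have := Fintype.ofFinite K
  have hodd : Fintype.card K % 2 = 1 := FiniteField.odd_card_of_char_ne_two fun hc => h2 (by
    haveI : CharP K 2 := ringChar.of_eq hc
    exact CharTwo.two_eq_zero)
  by_cases hq : Nat.card K % 8 = 3 ∨ Nat.card K % 8 = 5
  · exact pronormal_PSL2_klein hq H hH
  rw [Nat.card_eq_fintype_card] at hq
  have hq' : Fintype.card K % 8 = 1 ∨ Fintype.card K % 8 = 7 := by omega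
  suffices h : ∃ R : Subgroup (GL (Fin 2) K), Good False (RingHom.id K) R by
    obtain ⟨R, hR⟩ := h
    exact pronormal_PSL_of_good hR (a := 1) rfl H hH
  have hmem : ∀ g : GL (Fin 2) K, g ∈ Iso False (RingHom.id K) (Fin 2) := fun g h => h.elim
  rcases hq' with h1 | h7
  · obtain ⟨z, hz⟩ := exists_units_order (F := K) (d := 8) (by
      rw [Nat.card_units, Nat.card_eq_fintype_card]; omega)
    have hz8 : (z : K) ^ 8 = 1 := by rw [← Units.val_pow_eq_pow_val, ← hz, pow_orderOf_eq_one, Units.val_one]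
    have hz4 : (z : K) ^ 4 = -1 := by
      refine (mul_self_eq_one_iff.1 (show (z : K) ^ 4 * (z : K) ^ 4 = 1 by linear_combination hz8)).resolve_left
        fun h => ?_
      have h' : z ^ 4 = 1 := Units.ext (by simpa using h)
      have := Nat.le_of_dvd (by norm_num) (orderOf_dvd_of_pow_eq_one h')
      omega
    let B := baseDiag False (RingHom.id K) h2 (z ^ 2) (by
      rw [Units.val_pow_eq_pow_val]; linear_combination hz4) False.elim
    refine ⟨B.R, good_two B (e := diagHom K (z, z⁻¹)) ⟨hmem _, ?_, 3, ?_⟩ ?_ ?_⟩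
    · show diagHom K (z, z⁻¹) * diagHom K (z ^ 2, 1) = diagHom K (z ^ 2, 1) * diagHom K (z, z⁻¹)
      rw [← map_mul, ← map_mul, mul_comm]
    · have hzu : z ^ 2 ^ 3 = 1 := by rw [show (2 : ℕ) ^ 3 = 8 from rfl, ← hz, pow_orderOf_eq_one]
      rw [← map_pow, Prod.pow_mk, inv_pow, hzu, inv_one]
      exact map_one _
    · simp [diagHom_val, Matrix.det_fin_two]
    · intro r h
      have := (isScalar_of_eq h).1
      simp [diagHom_val, Matrix.mul_apply, Fin.sum_univ_two] at this
      field_simp at this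
      exact h2 (by linear_combination hz4 - this)
  · have hns : ∀ x : K, x * x ≠ -1 := fun x hx => by
      have := FiniteField.isSquare_neg_one_iff.1 ⟨x, hx.symm⟩
      omega
    obtain ⟨B, hJ⟩ := exists_baseGauss False (RingHom.id K) id h2 hns
    obtain ⟨s, hs⟩ := FiniteField.isSquare_two_iff.2 (by omega : Fintype.card K % 8 ≠ 3 ∧ Fintype.card K % 8 ≠ 5)
    have hs0 : s ≠ 0 := fun h => h2 (by rw [hs, h, mul_zero])
    have ha : s⁻¹ * s⁻¹ + s⁻¹ * s⁻¹ = 1 := by
      field_simp
      linear_combination hs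
    let e : GL (Fin 2) K := Matrix.GeneralLinearGroup.mkOfDetNeZero (gMat s⁻¹ s⁻¹) (by rw [det_gMat, ha]; exact one_ne_zero)
    have he2 : ((e * e : GL (Fin 2) K) : M2) = gMat 0 1 := by
      ext i j
      fin_cases i <;> fin_cases j <;> simp [e, gMat, Matrix.mul_apply, Fin.sum_univ_two] <;>
        first | linear_combination ha | linear_combination -ha
    refine ⟨B.R, good_two B (e := e) ⟨hmem _, ?_, 3, ?_⟩ (by simp only [e]; exact (det_gMat _ _).trans ha) ?_⟩
    · obtain ⟨α, β, hc⟩ := exists_lin (B.c0 : M2) (B.c : M2) (by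
        rw [hJ]; simp [gMat, Matrix.trace_fin_two, Matrix.det_fin_two]
        intro h
        exact h2 (mul_self_eq_zero.1 (show (2 : K) * 2 = 0 by linear_combination -h)))
        (congrArg (fun g : GL (Fin 2) K => (g : M2)) B.c0_comm.eq.symm)
      refine Units.ext ?_
      rw [Units.val_mul, Units.val_mul, hc, hJ]
      show gMat s⁻¹ s⁻¹ * _ = _ * gMat s⁻¹ s⁻¹
      rw [Matrix.mul_add, Matrix.add_mul, Matrix.mul_smul, Matrix.smul_mul, Matrix.mul_smul, Matrix.smul_mul,
        Matrix.mul_one, Matrix.one_mul, gMat_commute]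
    · refine Units.ext ?_
      rw [show (2 : ℕ) ^ 3 = 2 * 4 from rfl, pow_mul, sq, Units.val_pow_eq_pow_val, he2, Units.val_one]
      ext i j
      fin_cases i <;> fin_cases j <;> simp [gMat, pow_succ, Matrix.mul_apply, Fin.sum_univ_two]
    · intro r h
      have := (isScalar_of_eq h).2
      rw [he2] at this
      simp [gMat] at this

/-- `PSL` of two-power degree -/
theorem pronormal_PSL_two_power (w : ℕ) (hw : 1 ≤ w)
    (H : Subgroup (Matrix.ProjectiveSpecialLinearGroup (Fin (2 ^ w)) K)) (hH : Odd H.index) :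
    Cfsg.IsPronormal H := by
  by_cases h2 : (2 : K) = 0
  · haveI : CharP K 2 := CharTwo.of_one_ne_zero_of_two_eq_zero one_ne_zero h2
    exact pronormal_PSL_even Nat.one_le_two_pow H hH
  obtain ⟨a, rfl⟩ := Nat.exists_eq_add_of_le hw
  rcases a with _ | a
  · exact pronormal_PSL2_odd h2 H hH
  · revert H
    rw [show 1 + (a + 1) = a + 2 by omega]
    exact fun H hH => pronormal_PSL_odd h2 H hH

/-- `PSU` of two-power degree -/
theorem pronormal_PSU_two_power [Fintype K] {q : ℕ} (hF : Fintype.card K = q ^ 2) (w : ℕ) (hw : 2 ≤ w)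
    (H : Subgroup (Cfsg.PSU (2 ^ w) K q)) (hH : Odd H.index) : Cfsg.IsPronormal H := by
  rcases Nat.even_or_odd q with he | ho
  · haveI : CharP K 2 := by
      have h2 : (2 : K) = 0 := by
        have hc : ringChar K = 2 := FiniteField.even_card_iff_char_two.2 (by
          rw [hF]; exact Nat.even_iff.1 (Nat.even_pow.2 ⟨he, two_ne_zero⟩))
        haveI : CharP K 2 := ringChar.of_eq hc
        exact CharTwo.two_eq_zero
      exact CharTwo.of_one_ne_zero_of_two_eq_zero one_ne_zero h2
    refine pronormal_PSU_even hF ?_ ?_ H hH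
    · calc 4 = 2 ^ 2 := rfl
        _ ≤ 2 ^ w := Nat.pow_le_pow_right (by norm_num) hw
    · exact Nat.even_pow.2 ⟨even_two, by omega⟩
  · obtain ⟨a, rfl⟩ := Nat.exists_eq_add_of_le hw
    revert H
    rw [show 2 + a = a + 2 by omega]
    exact fun H hH => pronormal_PSU_odd (by rw [Nat.card_eq_fintype_card, hF]) ho H hH

end CfsgLib.Geometry.Pron
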