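import Cfsg.Agent.Lib.Geometry.Pron.BruhatSU

/-!
The relation given by the root groups in an overgroup, unitary groups in characteristic two.
-/

set_option autoImplicit false

namespace CfsgLib.Geometry.Pron

open Matrix CfsgLib.KnownB.PSLAut CfsgLib.Involutions.PSLUnip CfsgLib.Involutions.UAnti CfsgLib.Classical
  CfsgLib.Classical.Unitary

variable {n : ℕ} {F : Type*} [Field F] {σ : F →+* F} {q : ℕ}

local notation "SLn" => Matrix.SpecialLinearGroup (Fin n) F
local notation "Mn" => Matrix (Fin n) (Fin n) F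
local notation "Tv" => Matrix.SpecialLinearGroup.transvection (F := F)

theorem tv_congr {a b a' b' : Fin n} {hab : a ≠ b} {t t' : F} (ha : a = a') (hb : b = b') (ht : t = t') :
    (Tv hab t : SLn) = Tv (show a' ≠ b' from ha ▸ hb ▸ hab) t' := by
  subst ha; subst hb; subst ht; rfl

theorem mono_H (hne : ∀ i : Fin n, i ≠ Fin.rev i) {m : SLn} (hm : m ∈ H n σ) {π : Equiv.Perm (Fin n)}
    (hπ : IsMono (m : Mn) π) (i : Fin n) :
    π (Fin.rev i) = Fin.rev (π i) ∧ (m : Mn) (π i) i * σ ((m : Mn) (π (Fin.rev i)) (Fin.rev i)) = 1 := by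
  have hcol : (fun l => (m : Mn) l i) = Pi.single (π i) ((m : Mn) (π i) i) := by
    funext l
    by_cases hl : l = π i
    · subst hl; simp
    · simp [hl, hπ l i hl]
  have h1 := col_mem_H hm i (Fin.rev i)
  rw [if_pos (Fin.rev_rev i).symm, hcol, ab_single_left] at h1
  have h2 : π (Fin.rev i) = Fin.rev (π i) := by
    by_contra hne'
    rw [hπ _ _ (Ne.symm hne'), map_zero, mul_zero] at h1
    exact zero_ne_one h1
  exact ⟨h2, by rw [h2]; exact h1⟩

theorem mono_conj_sh (h : UFrob σ q) (hne : ∀ i : Fin n, i ≠ Fin.rev i) {m : SLn} (hm : m ∈ H n σ)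
    {π : Equiv.Perm (Fin n)} (hπ : IsMono (m : Mn) π) {a b : Fin n} (hab : a ≠ b) (t : F) :
    m * sh hab σ t * m⁻¹ = sh (π.injective.ne hab) σ ((m : Mn) (π a) a * t / (m : Mn) (π b) b) := by
  rw [show sh hab σ t = Tv hab t *
    Tv (show Fin.rev b ≠ Fin.rev a from fun hh => hab (Fin.rev_injective hh).symm) (-σ t) from rfl]
  rw [show ∀ x y : SLn, m * (x * y) * m⁻¹ = m * x * m⁻¹ * (m * y * m⁻¹) from fun x y => by group,
    mono_conj_tv hπ, mono_conj_tv hπ]
  refine congrArg _ ?_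
  obtain ⟨ha1, ha2⟩ := mono_H hne hm hπ a
  obtain ⟨hb1, hb2⟩ := mono_H hne hm hπ b
  refine tv_congr hb1 ha1 ?_
  have hA := hπ.ne_zero a
  have hB := hπ.ne_zero b
  have hA' := hπ.ne_zero (Fin.rev a)
  have hB' := hπ.ne_zero (Fin.rev b)
  have ea : σ ((m : Mn) (π a) a) = ((m : Mn) (π (Fin.rev a)) (Fin.rev a))⁻¹ := by
    have := congrArg σ ha2
    rw [map_mul, h.invol, map_one] at this
    exact eq_inv_of_mul_eq_one_left this
  have eb : σ ((m : Mn) (π b) b) = ((m : Mn) (π (Fin.rev b)) (Fin.rev b))⁻¹ := by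
    have := congrArg σ hb2
    rw [map_mul, h.invol, map_one] at this
    exact eq_inv_of_mul_eq_one_left this
  rw [map_div₀, map_mul, ea, eb]
  field_simp

/-- the root group lies in `K` -/
def RootH (σ : F →+* F) (K : Subgroup SLn) (a b : Fin n) : Prop :=
  ∀ hab : a ≠ b, (b = Fin.rev a → ∀ c : F, c + σ c = 0 → Tv hab c ∈ K) ∧
    (b ≠ Fin.rev a → ∀ t : F, sh hab σ t ∈ K)

theorem rootH_map (h : UFrob σ q) (hne : ∀ i : Fin n, i ≠ Fin.rev i) {K : Subgroup SLn} {m : SLn}
    (hm : m ∈ H n σ) (hmK : m ∈ K) {π : Equiv.Perm (Fin n)} (hπ : IsMono (m : Mn) π) {a b : Fin n}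
    (hR : RootH σ K a b) : RootH σ K (π a) (π b) := by
  intro hπab
  have hab : a ≠ b := fun e => hπab (e ▸ rfl)
  have hA := hπ.ne_zero a
  have hB := hπ.ne_zero b
  obtain ⟨ha1, ha2⟩ := mono_H hne hm hπ a
  constructor
  · intro e c hc
    have hb : b = Fin.rev a := π.injective (by rw [e, ha1])
    have hc' : c * (m : Mn) (π b) b / (m : Mn) (π a) a +
        σ (c * (m : Mn) (π b) b / (m : Mn) (π a) a) = 0 := by
      subst hb
      have hs : σ ((m : Mn) (π (Fin.rev a)) (Fin.rev a)) = ((m : Mn) (π a) a)⁻¹ :=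
        eq_inv_of_mul_eq_one_right ha2
      have hs' : σ ((m : Mn) (π a) a) = ((m : Mn) (π (Fin.rev a)) (Fin.rev a))⁻¹ := by
        have := congrArg σ ha2
        rw [map_mul, h.invol, map_one] at this
        exact eq_inv_of_mul_eq_one_left this
      rw [map_div₀, map_mul, hs, hs']
      field_simp
      linear_combination ((m : Mn) (π (Fin.rev a)) (Fin.rev a)) * hc
    have := mul_mem (mul_mem hmK ((hR hab).1 hb _ hc')) (inv_mem hmK)
    rw [mono_conj_tv hπ] at this
    convert this using 2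
    field_simp
  · intro e t
    have hb : b ≠ Fin.rev a := fun hb => e (by rw [hb, ha1])
    have := mul_mem (mul_mem hmK ((hR hab).2 hb (t * (m : Mn) (π b) b / (m : Mn) (π a) a))) (inv_mem hmK)
    rw [mono_conj_sh h hne hm hπ] at this
    convert this using 2
    field_simp

variable [CharP F 2]

theorem rootH_symm (h : UFrob σ q) (hne : ∀ i : Fin n, i ≠ Fin.rev i) {K : Subgroup SLn} {a b : Fin n}
    (hR : RootH σ K a b) : RootH σ K (Fin.rev b) (Fin.rev a) := by
  intro hab'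
  have hab : a ≠ b := fun e => hab' (e ▸ rfl)
  constructor
  · intro e c hc
    rw [Fin.rev_rev] at e
    have hb : b = Fin.rev a := e ▸ rfl
    have := (hR hab).1 hb c hc
    have e2 : (Tv hab c : SLn) = Tv hab' c := tv_congr (by rw [hb, Fin.rev_rev]) hb rfl
    rwa [← e2]
  · intro e t
    have hb : b ≠ Fin.rev a := fun hb => e (by rw [hb, Fin.rev_rev])
    have := (hR hab).2 hb (σ t)
    have he : sh hab' σ t = sh hab σ (σ t) := by
      refine Subtype.ext (Matrix.ext_iff_mulVec.2 fun v => funext fun k => ?_)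
      rw [mulVec_sh hab' (by rw [Fin.rev_rev]; exact (hne a).symm), mulVec_sh hab (hne b), Fin.rev_rev,
        Fin.rev_rev, h.invol, CharTwo.neg_eq, CharTwo.neg_eq]
      simp only [Pi.add_apply]
      ring
    rwa [he]

theorem comm_long (hne : ∀ i : Fin n, i ≠ Fin.rev i) {a b : Fin n} (hab : a ≠ b) (hb : b ≠ Fin.rev a)
    (t : F) : Tv (hne a) (t + σ t) =
      sh hab σ t * sh hb σ 1 * sh hab σ t * sh hb σ 1 := by
  refine Subtype.ext (Matrix.ext_iff_mulVec.2 fun v => funext fun k => ?_)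
  have h1 : Fin.rev a ≠ Fin.rev b := fun hh => hab (Fin.rev_injective hh)
  have h2 : Fin.rev b ≠ a := fun hh => hb (by rw [← hh, Fin.rev_rev])
  have h3 := hne a
  have h4 := hne b
  simp only [mulVec_mul, mulVec_sh hab (hne b), mulVec_sh hb (by rw [Fin.rev_rev]; exact (hne a).symm),
    CfsgLib.Classical.transvection_mulVec, Fin.rev_rev, map_one, CharTwo.neg_eq]
  rcases eq_or_ne k a with rfl | hka
  · simp [hab, hab.symm, hb, hb.symm, h1, h1.symm, h2, h2.symm, h3, h3.symm, h4, h4.symm]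
    grind
  rcases eq_or_ne k b with rfl | hkb
  · simp [hab, hab.symm, hb, hb.symm, h1, h1.symm, h2, h2.symm, h3, h3.symm, h4, h4.symm]
    grind
  rcases eq_or_ne k (Fin.rev b) with rfl | hkb'
  · simp [hab, hab.symm, hb, hb.symm, h1, h1.symm, h2, h2.symm, h3, h3.symm, h4, h4.symm]
    grind
  · simp [hka, hkb, hkb']

theorem comm_short_long (h : UFrob σ q) (hne : ∀ i : Fin n, i ≠ Fin.rev i) {a c : Fin n} (hac : a ≠ c)
    (hc : Fin.rev a ≠ c) {t t' : F} (ht : t * σ t = t' * σ t') :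
    sh hac σ (t + t') = Tv (hne a) 1 * sh hc σ t * Tv (hne a) 1 * sh hc σ t *
      (Tv (hne a) 1 * sh hc σ t' * Tv (hne a) 1 * sh hc σ t') := by
  refine Subtype.ext (Matrix.ext_iff_mulVec.2 fun v => funext fun k => ?_)
  have h1 : Fin.rev a ≠ Fin.rev c := fun hh => hac (Fin.rev_injective hh)
  have h2 : a ≠ Fin.rev c := fun hh => hc (by rw [hh, Fin.rev_rev])
  have h3 := hne a
  have h4 := hne c
  simp only [mulVec_mul, mulVec_sh hac (hne c), mulVec_sh hc (hne c),
    CfsgLib.Classical.transvection_mulVec, Fin.rev_rev, map_add, CharTwo.neg_eq]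
  rcases eq_or_ne k a with rfl | hka
  · simp [hac, hac.symm, hc, hc.symm, h1, h1.symm, h2, h2.symm, h3, h3.symm, h4, h4.symm]
    grind
  rcases eq_or_ne k (Fin.rev a) with rfl | hka'
  · simp [hac, hac.symm, hc, hc.symm, h1, h1.symm, h2, h2.symm, h3, h3.symm, h4, h4.symm]
    grind
  rcases eq_or_ne k (Fin.rev c) with rfl | hkc'
  · simp [hac, hac.symm, hc, hc.symm, h1, h1.symm, h2, h2.symm, h3, h3.symm, h4, h4.symm]
    grind
  · simp [hka, hka', hkc']

theorem comm_short (h : UFrob σ q) (hne : ∀ i : Fin n, i ≠ Fin.rev i) {a b c : Fin n} (hab : a ≠ b)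
    (hbc : b ≠ c) (hac : a ≠ c) (h1 : b ≠ Fin.rev a) (h2 : c ≠ Fin.rev b) (h3 : c ≠ Fin.rev a) (t : F) :
    sh hac σ t = sh hab σ t * sh hbc σ 1 * sh hab σ t * sh hbc σ 1 := by
  refine Subtype.ext (Matrix.ext_iff_mulVec.2 fun v => funext fun k => ?_)
  have e1 : Fin.rev a ≠ Fin.rev b := fun hh => hab (Fin.rev_injective hh)
  have e2 : Fin.rev b ≠ Fin.rev c := fun hh => hbc (Fin.rev_injective hh)
  have e3 : Fin.rev a ≠ Fin.rev c := fun hh => hac (Fin.rev_injective hh)
  have e4 : a ≠ Fin.rev b := fun hh => h1 (by rw [hh, Fin.rev_rev])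
  have e5 : b ≠ Fin.rev c := fun hh => h2 (by rw [hh, Fin.rev_rev])
  have e6 : a ≠ Fin.rev c := fun hh => h3 (by rw [hh, Fin.rev_rev])
  have e7 := hne a
  have e8 := hne b
  have e9 := hne c
  simp only [mulVec_mul, mulVec_sh hab (hne b), mulVec_sh hbc (hne c), mulVec_sh hac (hne c),
    map_one, CharTwo.neg_eq]
  rcases eq_or_ne k a with rfl | hka
  · simp [hab, hab.symm, hbc, hbc.symm, hac, hac.symm, h1, h1.symm, h2, h2.symm, h3, h3.symm, e1, e1.symm,
      e2, e2.symm, e3, e3.symm, e4, e4.symm, e5, e5.symm, e6, e6.symm, e7, e7.symm, e8, e8.symm, e9, e9.symm]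
    grind
  rcases eq_or_ne k b with rfl | hkb
  · simp [hab, hab.symm, hbc, hbc.symm, hac, hac.symm, h1, h1.symm, h2, h2.symm, h3, h3.symm, e1, e1.symm,
      e2, e2.symm, e3, e3.symm, e4, e4.symm, e5, e5.symm, e6, e6.symm, e7, e7.symm, e8, e8.symm, e9, e9.symm]
    grind
  rcases eq_or_ne k (Fin.rev b) with rfl | hkb'
  · simp [hab, hab.symm, hbc, hbc.symm, hac, hac.symm, h1, h1.symm, h2, h2.symm, h3, h3.symm, e1, e1.symm,
      e2, e2.symm, e3, e3.symm, e4, e4.symm, e5, e5.symm, e6, e6.symm, e7, e7.symm, e8, e8.symm, e9, e9.symm]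
    grind
  rcases eq_or_ne k (Fin.rev c) with rfl | hkc'
  · simp [hab, hab.symm, hbc, hbc.symm, hac, hac.symm, h1, h1.symm, h2, h2.symm, h3, h3.symm, e1, e1.symm,
      e2, e2.symm, e3, e3.symm, e4, e4.symm, e5, e5.symm, e6, e6.symm, e7, e7.symm, e8, e8.symm, e9, e9.symm]
    grind
  · simp [hka, hkb, hkb', hkc']

theorem rootH_short_long (h : UFrob σ q) (hne : ∀ i : Fin n, i ≠ Fin.rev i) {K : Subgroup SLn} {a c : Fin n}
    (hac : a ≠ c) (hc : Fin.rev a ≠ c) (h1 : RootH σ K a (Fin.rev a)) (h2 : RootH σ K (Fin.rev a) c) :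
    RootH σ K a c := by
  intro hac'
  refine ⟨fun e => absurd e.symm hc, fun _ s => ?_⟩
  obtain ⟨θ, hθ⟩ := exists_trace h
  have ht : θ * s * σ (θ * s) = (s + θ * s) * σ (s + θ * s) := by
    have h2 : (2 : F) = 0 := CharTwo.two_eq_zero
    rw [map_add, map_mul]
    linear_combination (-(s * σ s)) * hθ - (s * σ s) * h2
  have e := comm_short_long h hne hac hc ht
  rw [show θ * s + (s + θ * s) = s by rw [add_left_comm, CharTwo.add_self_eq_zero, add_zero]] at e
  have hL : Tv (hne a) (1 : F) ∈ K := (h1 (hne a)).1 rfl 1 (by rw [map_one]; exact CharTwo.add_self_eq_zero 1)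
  have hS : ∀ t, sh hc σ t ∈ K := (h2 hc).2 (by rw [Fin.rev_rev]; exact hac'.symm)
  rw [e]
  exact mul_mem (mul_mem (mul_mem (mul_mem hL (hS _)) hL) (hS _))
    (mul_mem (mul_mem (mul_mem hL (hS _)) hL) (hS _))

theorem rootH_trans (h : UFrob σ q) (hne : ∀ i : Fin n, i ≠ Fin.rev i) {K : Subgroup SLn} (a b c : Fin n)
    (hR1 : RootH σ K a b) (hR2 : RootH σ K b c) : RootH σ K a c := by
  rcases eq_or_ne a c with rfl | hac
  · exact fun hh => absurd rfl hh
  rcases eq_or_ne a b with rfl | hab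
  · exact hR2
  rcases eq_or_ne b c with rfl | hbc
  · exact hR1
  rcases eq_or_ne c (Fin.rev a) with rfl | hca
  · intro hh
    refine ⟨fun _ x hx => ?_, fun e => absurd rfl e⟩
    obtain ⟨θ, hθ⟩ := exists_trace h
    have hb : b ≠ Fin.rev a := hbc
    have hb' : Fin.rev a ≠ Fin.rev b := fun e => hab (Fin.rev_injective e)
    have e := comm_long (σ := σ) hne hab hb (x * θ)
    have hxx : x * θ + σ (x * θ) = x := by
      have hsx : σ x = x := by
        have h2 : σ x = -x := by linear_combination hx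
        rwa [CharTwo.neg_eq] at h2
      rw [map_mul, hsx, ← mul_add, hθ, mul_one]
    rw [hxx] at e
    rw [e]
    exact mul_mem (mul_mem (mul_mem ((hR1 hab).2 hb _) ((hR2 hbc).2 hb' _)) ((hR1 hab).2 hb _))
      ((hR2 hbc).2 hb' _)
  rcases eq_or_ne b (Fin.rev a) with rfl | hba
  · exact rootH_short_long h hne hac hbc hR1 hR2
  rcases eq_or_ne c (Fin.rev b) with rfl | hcb
  · have hs1 := rootH_symm h hne hR1
    have := rootH_short_long h hne (a := b) (c := Fin.rev a) hba
      (fun e => hab (Fin.rev_injective e).symm) hR2 hs1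
    simpa using rootH_symm h hne this
  intro hh
  refine ⟨fun e => absurd e hca, fun _ t => ?_⟩
  rw [comm_short h hne hab hbc hac hba hcb hca t]
  exact mul_mem (mul_mem (mul_mem ((hR1 hab).2 hba _) ((hR2 hbc).2 hcb _)) ((hR1 hab).2 hba _))
    ((hR2 hbc).2 hcb _)

end CfsgLib.Geometry.Pron
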