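import Cfsg.Agent.Lib.Geometry.Pron.TowerMain

/-!
The two-dimensional start: a torus part extended by an involution.
-/

set_option autoImplicit false

namespace CfsgLib.Geometry.Pron

open Matrix

universe u

variable {K : Type u} [Field K]

local notation "M2" => Matrix (Fin 2) (Fin 2) K

/-- the starting data -/
structure Base (Q : Prop) (σ : K →+* K) where
  c : GL (Fin 2) K
  τ : GL (Fin 2) K
  c0 : GL (Fin 2) K
  d : GL (Fin 2) K
  two : (2 : K) ≠ 0
  c_mem : c ∈ Iso Q σ (Fin 2)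
  τ_mem : τ ∈ Iso Q σ (Fin 2)
  c0_mem : c0 ∈ Iso Q σ (Fin 2)
  d_mem : d ∈ Iso Q σ (Fin 2)
  c_two : ∃ k : ℕ, c ^ 2 ^ k = 1
  c0_two : ∃ k : ℕ, c0 ^ 2 ^ k = 1
  d_two : ∃ k : ℕ, d ^ 2 ^ k = 1
  c0_comm : Commute c0 c
  d_comm : Commute d c
  τ_sq : τ * τ = 1
  τ_conj : ((τ * c * τ : GL (Fin 2) K) : M2) = (c : M2).trace • 1 - (c : M2)
  disc : (c : M2).trace ^ 2 ≠ 4 * (c : M2).det
  trace_ne : (c : M2).trace ≠ 0
  c0_det : (c0 : M2).det = 1
  c0_sq : c0 * c0 ≠ 1
  d_det : (τ : M2).det * (d : M2).det = 1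

variable {Q : Prop} {σ : K →+* K}

theorem cayley_two (A : M2) : A * A = A.trace • A - A.det • 1 := by
  ext i j
  fin_cases i <;> fin_cases j <;>
    simp [Matrix.mul_apply, Fin.sum_univ_two, Matrix.trace_fin_two, Matrix.det_fin_two] <;> ring

theorem trace_lin (A : M2) (α β : K) : (α • (1 : M2) + β • A).trace = 2 * α + β * A.trace := by
  simp [Matrix.trace_fin_two]
  ring

theorem det_lin (A : M2) (α β : K) :
    (α • (1 : M2) + β • A).det = α ^ 2 + α * β * A.trace + β ^ 2 * A.det := by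
  simp [Matrix.det_fin_two, Matrix.trace_fin_two]
  ring

theorem eq_zero_of_smul_ne (A : M2) (hA : A.trace ^ 2 ≠ 4 * A.det) {a b : K} (h : a • A = b • (1 : M2)) :
    a = 0 := by
  by_contra ha
  apply hA
  have e : A = (b / a) • (1 : M2) := by
    rw [div_eq_inv_mul, mul_smul, ← h, smul_smul, inv_mul_cancel₀ ha, one_smul]
  rw [e]
  simp [Matrix.trace_fin_two, Matrix.det_fin_two]
  ring

/-- the centraliser of a regular semisimple matrix -/
theorem exists_lin (A X : M2) (hA : A.trace ^ 2 ≠ 4 * A.det) (h : X * A = A * X) :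
    ∃ α β : K, X = α • (1 : M2) + β • A := by
  have e00 := congrFun (congrFun h 0) 0
  have e01 := congrFun (congrFun h 0) 1
  have e10 := congrFun (congrFun h 1) 0
  simp only [Matrix.mul_apply, Fin.sum_univ_two] at e00 e01 e10
  by_cases h01 : A 0 1 = 0
  · by_cases h10 : A 1 0 = 0
    · have hd : A 0 0 - A 1 1 ≠ 0 := fun hd => hA (by
        rw [Matrix.trace_fin_two, Matrix.det_fin_two, h01, h10, sub_eq_zero.1 hd]
        ring)
      rw [h01] at e01
      rw [h10] at e10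
      have x01 : X 0 1 = 0 := by
        have : X 0 1 * (A 0 0 - A 1 1) = 0 := by linear_combination -e01
        exact (mul_eq_zero.1 this).resolve_right hd
      have x10 : X 1 0 = 0 := by
        have : X 1 0 * (A 0 0 - A 1 1) = 0 := by linear_combination e10
        exact (mul_eq_zero.1 this).resolve_right hd
      refine ⟨X 0 0 - (X 0 0 - X 1 1) / (A 0 0 - A 1 1) * A 0 0, (X 0 0 - X 1 1) / (A 0 0 - A 1 1), ?_⟩
      ext i j
      fin_cases i <;> fin_cases j <;> simp [h01, h10, x01, x10] <;> field_simp <;> ring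
    · refine ⟨X 0 0 - X 1 0 / A 1 0 * A 0 0, X 1 0 / A 1 0, ?_⟩
      rw [h01] at e00 e01
      ext i j
      fin_cases i <;> fin_cases j <;> simp [h01] <;> grind
  · refine ⟨X 0 0 - X 0 1 / A 0 1 * A 0 0, X 0 1 / A 0 1, ?_⟩
    ext i j
    fin_cases i <;> fin_cases j <;> simp <;> field_simp <;> grind

theorem pow_two_pow_le {G : Type*} [Monoid G] {x : G} {k l : ℕ} (h : x ^ 2 ^ k = 1) (hl : k ≤ l) :
    x ^ 2 ^ l = 1 := by
  rw [← Nat.sub_add_cancel hl, pow_add, mul_comm, pow_mul, h, one_pow]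

namespace Base

variable (B : Base Q σ)

theorem commute_both {x y : GL (Fin 2) K} (hx : Commute x B.c) (hy : Commute y B.c) : Commute x y := by
  obtain ⟨a, b, ha⟩ := exists_lin _ _ B.disc (congrArg (fun g : GL (Fin 2) K => (g : M2)) hx.eq)
  obtain ⟨a', b', hb⟩ := exists_lin _ _ B.disc (congrArg (fun g : GL (Fin 2) K => (g : M2)) hy.eq)
  refine Units.ext ?_
  rw [Units.val_mul, Units.val_mul, ha, hb]
  simp only [Matrix.add_mul, Matrix.mul_add, Matrix.smul_mul, Matrix.mul_smul, Matrix.one_mul, Matrix.mul_one]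
  module

theorem τ_inv : B.τ⁻¹ = B.τ := inv_eq_of_mul_eq_one_right B.τ_sq

theorem conj_eq {x : GL (Fin 2) K} {α β : K} (h : (x : M2) = α • (1 : M2) + β • (B.c : M2)) :
    ((B.τ * x * B.τ : GL (Fin 2) K) : M2) = (α + β * (B.c : M2).trace) • (1 : M2) - β • (B.c : M2) := by
  have e1 : (B.τ : M2) * (B.τ : M2) = 1 := congrArg (fun g : GL (Fin 2) K => (g : M2)) B.τ_sq
  have e2 : (B.τ : M2) * (B.c : M2) * (B.τ : M2) = (B.c : M2).trace • 1 - (B.c : M2) := B.τ_conj
  rw [Units.val_mul, Units.val_mul, h, Matrix.mul_add, Matrix.add_mul, Matrix.mul_smul, Matrix.mul_one,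
    Matrix.smul_mul, e1, Matrix.mul_smul, Matrix.smul_mul, e2]
  module

theorem comm_conj {x : GL (Fin 2) K} (hx : Commute x B.c) : Commute (B.τ * x * B.τ) B.c := by
  obtain ⟨α, β, h⟩ := exists_lin _ _ B.disc (congrArg (fun g : GL (Fin 2) K => (g : M2)) hx.eq)
  refine Units.ext ?_
  rw [Units.val_mul, Units.val_mul (B.c), B.conj_eq h, Matrix.sub_mul, Matrix.mul_sub, Matrix.smul_mul,
    Matrix.mul_smul, Matrix.one_mul, Matrix.mul_one, Matrix.smul_mul, Matrix.mul_smul]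

theorem mul_conj_scal {x : GL (Fin 2) K} (hx : Commute x B.c) :
    x * (B.τ * x * B.τ) = scal (Matrix.GeneralLinearGroup.det x) := by
  obtain ⟨α, β, h⟩ := exists_lin _ _ B.disc (congrArg (fun g : GL (Fin 2) K => (g : M2)) hx.eq)
  refine Units.ext ?_
  rw [scal_val, Units.val_mul, B.conj_eq h, h, Matrix.GeneralLinearGroup.val_det_apply, h, det_lin]
  simp only [Matrix.add_mul, Matrix.mul_sub, Matrix.smul_mul, Matrix.mul_smul, Matrix.one_mul, Matrix.mul_one,
    cayley_two (B.c : M2), Matrix.scalar_apply, ← Matrix.smul_one_eq_diagonal]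
  module

/-- membership in the torus part -/
def Two (x : GL (Fin 2) K) : Prop :=
  x ∈ Iso Q σ (Fin 2) ∧ Commute x B.c ∧ ∃ k : ℕ, x ^ 2 ^ k = 1

theorem two_one : B.Two 1 := ⟨one_mem _, Commute.one_left _, 0, by simp⟩

theorem two_mul {x y : GL (Fin 2) K} (hx : B.Two x) (hy : B.Two y) : B.Two (x * y) := by
  refine ⟨mul_mem hx.1 hy.1, hx.2.1.mul_left hy.2.1, ?_⟩
  obtain ⟨k, hk⟩ := hx.2.2
  obtain ⟨l, hl⟩ := hy.2.2
  exact ⟨max k l, by rw [(B.commute_both hx.2.1 hy.2.1).mul_pow, pow_two_pow_le hk (le_max_left _ _),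
    pow_two_pow_le hl (le_max_right _ _), one_mul]⟩

theorem two_inv {x : GL (Fin 2) K} (hx : B.Two x) : B.Two x⁻¹ := by
  obtain ⟨k, hk⟩ := hx.2.2
  exact ⟨inv_mem hx.1, hx.2.1.inv_left, k, by rw [inv_pow, hk, inv_one]⟩

theorem two_conj {x : GL (Fin 2) K} (hx : B.Two x) : B.Two (B.τ * x * B.τ) := by
  obtain ⟨k, hk⟩ := hx.2.2
  refine ⟨mul_mem (mul_mem B.τ_mem hx.1) B.τ_mem, B.comm_conj hx.2.1, k, ?_⟩
  conv_lhs => rw [← B.τ_inv]
  rw [B.τ_inv]
  have : B.τ * x * B.τ = B.τ * x * B.τ⁻¹ := by rw [B.τ_inv]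
  rw [this, conj_pow, hk, mul_one, mul_inv_cancel]

/-- the group of the start -/
def R : Subgroup (GL (Fin 2) K) where
  carrier := {g | ∃ x, B.Two x ∧ (g = x ∨ g = B.τ * x)}
  one_mem' := ⟨1, B.two_one, Or.inl rfl⟩
  mul_mem' := by
    have mv : ∀ y : GL (Fin 2) K, y * B.τ = B.τ * (B.τ * y * B.τ) := fun y => by
      rw [← mul_assoc, ← mul_assoc, B.τ_sq, one_mul]
    rintro _ _ ⟨x, hx, rfl | rfl⟩ ⟨y, hy, rfl | rfl⟩
    · exact ⟨_, B.two_mul hx hy, Or.inl rfl⟩
    · refine ⟨_, B.two_mul (B.two_conj hx) hy, Or.inr ?_⟩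
      rw [← mul_assoc, mv, mul_assoc]
    · exact ⟨_, B.two_mul hx hy, Or.inr (mul_assoc _ _ _)⟩
    · refine ⟨_, B.two_mul (B.two_conj hx) hy, Or.inl ?_⟩
      simp only [← mul_assoc]
  inv_mem' := by
    rintro _ ⟨x, hx, rfl | rfl⟩
    · exact ⟨_, B.two_inv hx, Or.inl rfl⟩
    · refine ⟨_, B.two_conj (B.two_inv hx), Or.inr ?_⟩
      rw [_root_.mul_inv_rev, B.τ_inv, ← mul_assoc, ← mul_assoc, B.τ_sq, one_mul]

theorem two_mem {x : GL (Fin 2) K} (hx : B.Two x) : x ∈ B.R := ⟨x, hx, Or.inl rfl⟩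

theorem τ_mem_R : B.τ ∈ B.R := ⟨1, B.two_one, Or.inr (mul_one _).symm⟩

theorem sq_scal {x : GL (Fin 2) K} (hx : B.Two x) :
    ((B.τ * x) * (B.τ * x)) = scal (Matrix.GeneralLinearGroup.det x) := by
  rw [← mul_assoc, (B.commute_both (B.comm_conj hx.2.1) hx.2.1).eq, B.mul_conj_scal hx.2.1]

variable [Finite K]

/-- elements moving a regular element into the group and centralising `τ` up to it -/
theorem norm_of {n e : GL (Fin 2) K} (hn : n ∈ Iso Q σ (Fin 2)) (he : Commute e B.c)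
    (hsq : ∀ r : K, ((e * e : GL (Fin 2) K) : M2) ≠ r • (1 : M2))
    (h1 : n * e * n⁻¹ ∈ B.R) {t : GL (Fin 2) K} (ht : B.Two t)
    (h2 : n * (B.τ * t) * n⁻¹ ∈ B.R) : ∃ r ∈ B.R, ∃ s : Kˣ, n = r * scal s := by
  classical
  obtain ⟨α, β, hαβ⟩ := exists_lin _ _ B.disc (congrArg (fun g : GL (Fin 2) K => (g : M2)) he.eq)
  have hβ : β ≠ 0 := fun h0 => hsq (α * α) (by
    rw [Units.val_mul, hαβ, h0, zero_smul, add_zero, Matrix.smul_mul, Matrix.one_mul, smul_smul])
  have hcomm : Commute (n * e * n⁻¹) B.c := by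
    obtain ⟨x, hx, h | h⟩ := h1
    · exact h ▸ hx.2.1
    · exfalso
      have e1 : n * (e * e) * n⁻¹ = scal (Matrix.GeneralLinearGroup.det x) := by
        rw [← B.sq_scal hx, ← h]; group
      have e2 : e * e = scal (Matrix.GeneralLinearGroup.det x) := by
        rw [show e * e = n⁻¹ * (n * (e * e) * n⁻¹) * n by group, e1, mul_assoc, scal_comm, inv_mul_cancel_left]
      refine hsq ((Matrix.GeneralLinearGroup.det x : Kˣ) : K) ?_
      rw [e2, scal_val, Matrix.scalar_apply, Matrix.smul_one_eq_diagonal]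
  obtain ⟨a, b, hab⟩ := exists_lin _ _ B.disc (congrArg (fun g : GL (Fin 2) K => (g : M2)) hcomm.eq)
  have hdet : ((n * e * n⁻¹ : GL (Fin 2) K) : M2).det = (e : M2).det := det_conj n e
  have htr : ((n * e * n⁻¹ : GL (Fin 2) K) : M2).trace = (e : M2).trace := by
    rw [Units.val_mul, Units.val_mul, Matrix.trace_mul_cycle, Units.inv_mul, Matrix.one_mul]
  rw [hab, hαβ, det_lin, det_lin] at hdet
  rw [hab, hαβ, trace_lin, trace_lin] at htr
  have hbb : (b - β) * (b + β) = 0 := by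
    have h4 : ((B.c : M2).trace ^ 2 - 4 * (B.c : M2).det) * ((b - β) * (b + β)) = 0 := by
      linear_combination (2 * a + b * (B.c : M2).trace + 2 * α + β * (B.c : M2).trace) * htr - 4 * hdet
    exact (mul_eq_zero.1 h4).resolve_left (sub_ne_zero.2 B.disc)
  -- reduce to the centraliser
  obtain ⟨m, hm, hmn⟩ : ∃ m : GL (Fin 2) K, Commute m B.c ∧ (n = m ∨ n = B.τ * m) := by
    have conv : ∀ m : GL (Fin 2) K, m * e * m⁻¹ = e → Commute m B.c := by
      intro m hme
      have h5 : (m : M2) * (e : M2) = (e : M2) * (m : M2) := by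
        rw [← Units.val_mul, ← Units.val_mul]
        exact congrArg (fun g : GL (Fin 2) K => (g : M2)) (mul_inv_eq_iff_eq_mul.1 hme)
      refine Units.ext ?_
      rw [Units.val_mul, Units.val_mul]
      rw [hαβ, Matrix.mul_add, Matrix.add_mul, Matrix.mul_smul, Matrix.smul_mul, Matrix.mul_one,
        Matrix.one_mul, Matrix.mul_smul, Matrix.smul_mul] at h5
      exact smul_right_injective _ hβ (add_left_cancel h5)
    rcases mul_eq_zero.1 hbb with hb | hb
    · have hb' : b = β := sub_eq_zero.1 hb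
      subst hb'
      have ha : a = α := mul_left_cancel₀ B.two (by linear_combination htr)
      refine ⟨n, conv n (Units.ext ?_), Or.inl rfl⟩
      rw [hab, hαβ, ha]
    · have hb' : b = -β := eq_neg_of_add_eq_zero_left hb
      subst hb'
      have ha : a = α + β * (B.c : M2).trace := mul_left_cancel₀ B.two (by linear_combination htr)
      refine ⟨B.τ * n, conv _ (Units.ext ?_), Or.inr (by rw [← mul_assoc, B.τ_sq, one_mul])⟩
      rw [show B.τ * n * e * (B.τ * n)⁻¹ = B.τ * (n * e * n⁻¹) * B.τ by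
        rw [_root_.mul_inv_rev, B.τ_inv]; simp only [mul_assoc], B.conj_eq hab, hαβ, ha]
      module
  have hmI : m ∈ Iso Q σ (Fin 2) := by
    rcases hmn with rfl | rfl
    · exact hn
    · have := mul_mem B.τ_mem hn
      rwa [← mul_assoc, B.τ_sq, one_mul] at this
  have hmR : m * (B.τ * t) * m⁻¹ ∈ B.R := by
    rcases hmn with rfl | rfl
    · exact h2
    · have := mul_mem (mul_mem B.τ_mem_R h2) B.τ_mem_R
      convert this using 1
      rw [_root_.mul_inv_rev, B.τ_inv]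
      simp only [mul_assoc]
      rw [B.τ_sq, mul_one, ← mul_assoc B.τ B.τ, B.τ_sq, one_mul]
  suffices hgoal : ∃ r ∈ B.R, ∃ s : Kˣ, m = r * scal s by
    obtain ⟨r, hr, s, hs⟩ := hgoal
    rcases hmn with rfl | rfl
    · exact ⟨r, hr, s, hs⟩
    · exact ⟨B.τ * r, mul_mem B.τ_mem_R hr, s, by rw [hs, mul_assoc]⟩
  -- the commutator with `τ`
  obtain ⟨x, hx, hxe⟩ := hmR
  obtain ⟨z, hz, hze⟩ : ∃ z : GL (Fin 2) K, B.Two z ∧ z = m * (B.τ * m⁻¹ * B.τ) := by
    have hmt : m * (B.τ * t) * m⁻¹ = m * (B.τ * m⁻¹ * B.τ) * B.τ * t := by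
      have hc := (B.commute_both ht.2.1 hm.inv_left).eq
      simp only [mul_assoc]
      rw [hc, ← mul_assoc B.τ B.τ, B.τ_sq, one_mul]
    have hzc : Commute (m * (B.τ * m⁻¹ * B.τ)) B.c := hm.mul_left (B.comm_conj hm.inv_left)
    rcases hxe with hxe | hxe
    · exfalso
      have : Commute B.τ B.c := by
        have hτ : B.τ = (m * (B.τ * m⁻¹ * B.τ))⁻¹ * x * t⁻¹ := by rw [← hxe, hmt]; group
        rw [hτ]
        exact (hzc.inv_left.mul_left hx.2.1).mul_left ht.2.1.inv_left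
      have h6 : B.τ * B.c * B.τ = B.c := by rw [this.eq, mul_assoc, B.τ_sq, mul_one]
      have h7 := B.τ_conj
      rw [h6] at h7
      exact B.two (eq_zero_of_smul_ne _ B.disc (a := (2 : K)) (b := (B.c : M2).trace) (by
        rw [_root_.two_smul]; nth_rewrite 1 [h7]; rw [sub_add_cancel]))
    · refine ⟨B.τ * x * t⁻¹ * B.τ, ?_, ?_⟩
      · have := B.two_conj (B.two_mul hx (B.two_inv ht))
        rwa [← mul_assoc] at this
      · rw [← hxe, hmt, mul_inv_cancel_right, mul_assoc, B.τ_sq, mul_one]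
  have hsq2 : m * m = z * scal (Matrix.GeneralLinearGroup.det m) := by
    rw [hze, ← B.mul_conj_scal hm]
    have h8 : Commute (B.τ * m⁻¹ * B.τ) m := B.commute_both (B.comm_conj hm.inv_left) hm
    calc m * m = m * ((B.τ * m⁻¹ * B.τ) * (B.τ * m * B.τ) * m) := by
          have : (B.τ * m⁻¹ * B.τ) * (B.τ * m * B.τ) = 1 := by
            simp only [mul_assoc]
            rw [← mul_assoc B.τ B.τ, B.τ_sq, one_mul, inv_mul_cancel_left, B.τ_sq]
          rw [this, one_mul]
      _ = m * (B.τ * m⁻¹ * B.τ) * (m * (B.τ * m * B.τ)) := by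
          rw [(B.commute_both (B.comm_conj hm) hm).eq.symm]
          simp only [mul_assoc]
  obtain ⟨k, hk⟩ := hz.2.2
  haveI : Finite (GL (Fin 2) K) := Finite.of_injective (fun g : GL (Fin 2) K => (g : M2)) Units.val_injective
  obtain ⟨ea, om, hom, hord⟩ := Nat.exists_eq_two_pow_mul_odd (orderOf_pos m).ne'
  set A := ea + k + 1 with hA
  have hcop : IsCoprime ((2 : ℤ) ^ A) (om : ℤ) := by
    have : Nat.Coprime (2 ^ A) om := (Nat.coprime_two_left.2 hom).pow_left A
    have := Nat.isCoprime_iff_coprime.2 this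
    simpa using this
  obtain ⟨u, v, huv⟩ := hcop
  have hscal : ∀ j, k ≤ j → ∃ s : Kˣ, m ^ 2 ^ (j + 1) = scal s := by
    intro j hj
    refine ⟨Matrix.GeneralLinearGroup.det m ^ 2 ^ j, ?_⟩
    have hcz : Commute z (scal (Matrix.GeneralLinearGroup.det m)) := (scal_comm _ z).symm
    rw [pow_succ', pow_mul, sq, hsq2, hcz.mul_pow, pow_two_pow_le hk hj, one_mul, map_pow]
  obtain ⟨s, hs⟩ := hscal (ea + k) (Nat.le_add_left _ _)
  have hw : B.Two (m ^ om) := by
    refine ⟨pow_mem hmI _, hm.pow_left _, ea, ?_⟩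
    rw [← pow_mul, mul_comm, ← hord, pow_orderOf_eq_one]
  refine ⟨(m ^ om) ^ v, zpow_mem (B.two_mem hw) v, s ^ u, ?_⟩
  rw [map_zpow, ← hs, ← zpow_natCast m om, ← zpow_natCast m (2 ^ (ea + k + 1)), ← _root_.zpow_mul, ← _root_.zpow_mul,
    ← _root_.zpow_add]
  conv_lhs => rw [← zpow_one m, ← huv]
  congr 1
  push_cast
  rw [← hA]
  ring

omit [Finite K] in
theorem isPGroup : IsPGroup 2 B.R := by
  rintro ⟨g, x, hx, rfl | rfl⟩
  · obtain ⟨k, hk⟩ := hx.2.2
    exact ⟨k, Subtype.ext hk⟩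
  · obtain ⟨k, hk⟩ := (B.two_mul (B.two_conj hx) hx).2.2
    refine ⟨1 + k, Subtype.ext ?_⟩
    show (B.τ * x) ^ 2 ^ (1 + k) = 1
    rw [pow_add, pow_one, pow_mul, sq, ← mul_assoc, hk]

omit [Finite K] in
theorem c_Two : B.Two B.c := ⟨B.c_mem, Commute.refl _, B.c_two⟩

omit [Finite K] in
theorem c_sq_ne (r : K) : ((B.c * B.c : GL (Fin 2) K) : M2) ≠ r • (1 : M2) := by
  intro h
  rw [Units.val_mul, cayley_two] at h
  exact B.trace_ne (eq_zero_of_smul_ne _ B.disc (b := r + (B.c : M2).det) (by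
    rw [sub_eq_iff_eq_add] at h
    rw [h, add_smul]))

/-- the start of the tower -/
theorem tower : Tower Q σ B.R where
  even := by simp
  ne := inferInstance
  pgroup := B.isPGroup
  le := by
    rintro g ⟨x, hx, rfl | rfl⟩
    · exact hx.1
    · exact mul_mem B.τ_mem hx.1
  norm := fun n hn h =>
    B.norm_of hn (Commute.refl _) B.c_sq_ne (h _ (B.two_mem B.c_Two)) B.two_one
      (by rw [mul_one]; exact h _ B.τ_mem_R)
  scal_mem := fun c hc hk => B.two_mem ⟨hc, scal_comm _ _, by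
    obtain ⟨k, hk⟩ := hk
    exact ⟨k, by rw [← map_pow, hk, map_one]⟩⟩
  irred := fun W hW => by
    by_contra hcon
    rw [not_or] at hcon
    obtain ⟨v, hv, hv0⟩ := Submodule.exists_mem_ne_zero_of_ne_bot hcon.1
    have hone : Module.finrank K W = 1 := by
      have h2 : Module.finrank K (Fin 2 → K) = 2 := by simp
      have hlt := Submodule.finrank_lt hcon.2
      have hpos : Module.finrank K W ≠ 0 := fun h0 => hcon.1 (Submodule.finrank_eq_zero.1 h0)
      omega
    have hline : ∀ w ∈ W, ∃ l : K, w = l • v := fun w hw => by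
      obtain ⟨l, hl⟩ := (finrank_eq_one_iff_of_nonzero' (⟨v, hv⟩ : W) (by simpa using hv0)).1 hone ⟨w, hw⟩
      exact ⟨l, (congrArg Subtype.val hl).symm⟩
    have hc0 : B.Two B.c0 := ⟨B.c0_mem, B.c0_comm, B.c0_two⟩
    have hd : B.Two B.d := ⟨B.d_mem, B.d_comm, B.d_two⟩
    obtain ⟨l, hl⟩ := hline _ (hW _ (B.two_mem hc0) B.c0_det v hv)
    obtain ⟨μ, hμ⟩ := hline _ (hW (B.τ * B.d) ⟨_, hd, Or.inr rfl⟩ (by
      rw [Units.val_mul, det_mul]; exact B.d_det) v hv)
    have hinv : B.τ * B.d * B.c0 = B.c0⁻¹ * (B.τ * B.d) := by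
      have h1 : B.c0 * (B.τ * B.c0 * B.τ) = 1 := by
        rw [B.mul_conj_scal B.c0_comm, show Matrix.GeneralLinearGroup.det B.c0 = 1 from Units.ext B.c0_det,
          map_one]
      rw [inv_eq_of_mul_eq_one_right h1, mul_assoc, (B.commute_both B.d_comm B.c0_comm).eq]
      simp only [mul_assoc]
      rw [← mul_assoc B.τ B.τ, B.τ_sq, one_mul]
    have hl0 : ((B.c0⁻¹ : GL (Fin 2) K) : M2) *ᵥ (μ • v) = l • (μ • v) := by
      rw [← hμ, Matrix.mulVec_mulVec, ← Units.val_mul, ← hinv, Units.val_mul, ← Matrix.mulVec_mulVec, hl,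
        Matrix.mulVec_smul, hμ]
    have hμ0 : μ • v ≠ 0 := fun h0 => by
      rw [h0] at hμ
      have h' := congrArg ((((B.τ * B.d)⁻¹ : GL (Fin 2) K) : M2) *ᵥ ·) hμ
      simp only [Matrix.mulVec_mulVec, ← Units.val_mul, inv_mul_cancel, Units.val_one, Matrix.one_mulVec,
        Matrix.mulVec_zero] at h'
      exact hv0 h'
    have hll : l * l = 1 := by
      have h' := congrArg ((B.c0 : M2) *ᵥ ·) hl0
      simp only [Matrix.mulVec_mulVec, ← Units.val_mul, mul_inv_cancel, Units.val_one, Matrix.one_mulVec,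
        Matrix.mulVec_smul, hl, smul_smul] at h'
      have : μ • v = (l * l) • (μ • v) := by rw [smul_smul]; convert h' using 2; ring
      have h3 : (l * l - 1) • (μ • v) = 0 := by rw [sub_smul, one_smul, ← this, sub_self]
      exact sub_eq_zero.1 ((smul_eq_zero.1 h3).resolve_right hμ0)
    obtain ⟨α, β, hαβ⟩ := exists_lin _ _ B.disc (congrArg (fun g : GL (Fin 2) K => (g : M2)) B.c0_comm.eq)
    have hch : (l * l - (B.c0 : M2).trace * l + (B.c0 : M2).det) • v = 0 := by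
      have h' := congrArg (· *ᵥ v) (cayley_two (B.c0 : M2))
      simp only [← Matrix.mulVec_mulVec, Matrix.sub_mulVec, Matrix.smul_mulVec, Matrix.one_mulVec, hl,
        Matrix.mulVec_smul, smul_smul] at h'
      rw [add_smul, sub_smul, h']
      abel
    have hch' := (smul_eq_zero.1 hch).resolve_right hv0
    have hdet := B.c0_det
    rw [hdet, hll] at hch'
    rw [hαβ, det_lin] at hdet
    rw [hαβ, trace_lin] at hch'
    have hβ : β = 0 := by
      by_contra hβ
      apply B.disc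
      have h4 : β ^ 2 * ((B.c : M2).trace ^ 2 - 4 * (B.c : M2).det) = 0 := by
        have ht2 : (2 * α + β * (B.c : M2).trace) = 2 * l := by
          have hl' : l ≠ 0 := left_ne_zero_of_mul_eq_one hll
          exact mul_right_cancel₀ hl' (by linear_combination (-1 : K) * hch' - 2 * hll)
        linear_combination (2 * α + β * (B.c : M2).trace + 2 * l) * ht2 - 4 * hdet + 4 * hll
      exact sub_eq_zero.1 ((mul_eq_zero.1 h4).resolve_left (pow_ne_zero 2 hβ))
    apply B.c0_sq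
    refine Units.ext ?_
    rw [hβ] at hdet
    rw [Units.val_mul, hαβ, hβ, zero_smul, add_zero, Matrix.smul_mul, Matrix.one_mul, smul_smul, Units.val_one]
    rw [show α * α = 1 by linear_combination hdet, one_smul]
  noncomm := by
    have hc0 : B.Two B.c0 := ⟨B.c0_mem, B.c0_comm, B.c0_two⟩
    have hd : B.Two B.d := ⟨B.d_mem, B.d_comm, B.d_two⟩
    refine ⟨B.c0, B.two_mem hc0, B.τ * B.d, ⟨_, hd, Or.inr rfl⟩, B.c0_det,
      by rw [Units.val_mul, det_mul]; exact B.d_det, fun h => B.c0_sq ?_⟩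
    have h1 : B.c0 * (B.τ * B.c0 * B.τ) = 1 := by
      rw [B.mul_conj_scal B.c0_comm, show Matrix.GeneralLinearGroup.det B.c0 = 1 from Units.ext B.c0_det,
        map_one]
    have h2 : B.τ * B.c0 = B.c0 * B.τ := by
      have h' : B.c0 * B.τ * B.d = B.τ * B.c0 * B.d := by
        rw [mul_assoc, h, mul_assoc B.τ, mul_assoc B.τ, (B.commute_both B.d_comm B.c0_comm).eq]
      exact (mul_right_cancel h').symm
    rwa [h2, mul_assoc B.c0 B.τ, B.τ_sq, mul_one] at h1

end Base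

end CfsgLib.Geometry.Pron
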