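import Cfsg.Agent.Lib.Geometry.Pron.TowerMain
import Cfsg.Agent.Lib.Geometry.Pron.Glue
import Cfsg.Agent.Lib.Geometry.UnSplit
import Cfsg.Agent.Lib.Classical.UnitarySU

/-!
Self-normalising Sylow two-subgroups of `PSL` and `PSU` of two-power degree, from a group with scalar normaliser.
-/

set_option autoImplicit false

namespace CfsgLib.Geometry.Pron

open Matrix Cfsg.FgsC.Pronormal CfsgLib.Classical CfsgLib.Classical.Unitary

universe u v w

variable {K : Type u} [Field K]

/-- transport of a matrix group along a bijection of the index types -/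
def reGL {ι : Type v} {κ : Type w} [Fintype ι] [DecidableEq ι] [Fintype κ] [DecidableEq κ] (e : ι ≃ κ) :
    GL ι K ≃* GL κ K :=
  Units.mapEquiv (Matrix.reindexAlgEquiv K K e).toMulEquiv

theorem reGL_val {ι : Type v} {κ : Type w} [Fintype ι] [DecidableEq ι] [Fintype κ] [DecidableEq κ] (e : ι ≃ κ)
    (g : GL ι K) : ((reGL e g : GL κ K) : Matrix κ κ K) = (g : Matrix ι ι K).submatrix e.symm e.symm := rfl

/-- normalisers of the part of determinant one are scalar up to the group -/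
def NormP {ι : Type v} [Fintype ι] [DecidableEq ι] (Q : Prop) (σ : K →+* K) (R : Subgroup (GL ι K)) : Prop :=
  ∀ n ∈ Iso Q σ ι, (∀ x ∈ R, (x : Matrix ι ι K).det = 1 → n * x * n⁻¹ ∈ R) → ∃ r ∈ R, ∃ c : Kˣ, n = r * scal c

/-- what is used of the group -/
def Good {ι : Type v} [Fintype ι] [DecidableEq ι] (Q : Prop) (σ : K →+* K) (R : Subgroup (GL ι K)) : Prop :=
  IsPGroup 2 R ∧ R ≤ Iso Q σ ι ∧
    (∀ c : Kˣ, scal c ∈ Iso Q σ ι → (∃ k : ℕ, c ^ 2 ^ k = 1) → scal c ∈ R) ∧ NormP Q σ R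

theorem Good.reindex {ι : Type v} {κ : Type w} [Fintype ι] [DecidableEq ι] [Fintype κ] [DecidableEq κ]
    {Q : Prop} {σ : K →+* K} {R : Subgroup (GL ι K)} (h : Good Q σ R) (e : ι ≃ κ) :
    Good Q σ (R.map (reGL e : GL ι K ≃* GL κ K).toMonoidHom) := by
  obtain ⟨h1, h2, h3, h4⟩ := h
  have hiso : ∀ g : GL ι K, reGL e g ∈ Iso Q σ κ ↔ g ∈ Iso Q σ ι := by
    intro g
    simp only [mem_Iso, reGL_val]
    refine forall_congr' fun _ => ?_
    rw [← Matrix.submatrix_map, Matrix.transpose_submatrix, Matrix.submatrix_mul_equiv]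
    constructor
    · intro h
      have := congrArg (fun M : Matrix κ κ K => M.submatrix e e) h
      simpa [Matrix.submatrix_submatrix] using this
    · intro h
      rw [h, Matrix.submatrix_one_equiv]
  have hscal : ∀ c : Kˣ, reGL e (scal c) = (scal c : GL κ K) := fun c => Units.ext (by
    rw [reGL_val, scal_val, scal_val]
    simp [Matrix.scalar_apply])
  refine ⟨h1.map _, ?_, fun c hc hk => ?_, fun n hn hnorm => ?_⟩
  · rintro _ ⟨g, hg, rfl⟩
    exact (hiso g).2 (h2 hg)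
  · rw [← hscal] at hc ⊢
    exact ⟨_, h3 c ((hiso _).1 hc) hk, rfl⟩
  · obtain ⟨m, rfl⟩ := (reGL e).surjective n
    obtain ⟨r, hr, c, hc⟩ := h4 m ((hiso m).1 hn) fun x hx hd => by
      obtain ⟨y, hy, hye⟩ := hnorm _ ⟨x, hx, rfl⟩ (by
        show ((reGL e x : GL κ K) : Matrix κ κ K).det = 1
        rw [reGL_val, Matrix.det_submatrix_equiv_self]
        exact hd)
      have : y = m * x * m⁻¹ := (reGL e).injective (hye.trans (by simp [map_mul, map_inv]))
      exact this ▸ hy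
    exact ⟨_, ⟨r, hr, rfl⟩, c, by rw [hc, map_mul, hscal]; rfl⟩

variable [Finite K]

/-- an element of determinant one, scalar up to the group, is in the group -/
theorem Good.mem_of_det {ι : Type v} [Fintype ι] [DecidableEq ι] {Q : Prop} {σ : K →+* K}
    {R : Subgroup (GL ι K)} (h : Good Q σ R) {a : ℕ} (hcard : Fintype.card ι = 2 ^ a)
    {n : GL ι K} (hn : n ∈ Iso Q σ ι) (hdet : (n : Matrix ι ι K).det = 1)
    (hnorm : ∀ x ∈ R, (x : Matrix ι ι K).det = 1 → n * x * n⁻¹ ∈ R) : n ∈ R := by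
  obtain ⟨h1, h2, h3, h4⟩ := h
  obtain ⟨r, hr, c, rfl⟩ := h4 n hn hnorm
  refine mul_mem hr (h3 c ?_ ?_)
  · have := mul_mem (inv_mem (h2 hr)) hn
    rwa [inv_mul_cancel_left] at this
  · obtain ⟨k, hk⟩ := h1 ⟨r, hr⟩
    have hk' : r ^ 2 ^ k = 1 := congrArg Subtype.val hk
    refine ⟨a + k, Units.ext ?_⟩
    have hd : (r : Matrix ι ι K).det * (c : K) ^ 2 ^ a = 1 := by
      rw [← hdet, Units.val_mul, det_mul, scal_val, Matrix.scalar_apply, det_diagonal, Finset.prod_const,
        Finset.card_univ, hcard]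
    have hr1 : (r : Matrix ι ι K).det ^ 2 ^ k = 1 := by
      rw [← det_pow, ← Units.val_pow_eq_pow_val, hk', Units.val_one, det_one]
    have := congrArg (· ^ 2 ^ k) hd
    simp only [mul_pow, hr1, one_mul, one_pow, ← pow_mul, ← pow_add] at this
    simpa using this

theorem selfNorm_pronormal {n : ℕ} {G : Type*} [Group G] [Finite G] {Q : Prop} {σ : K →+* K}
    {R : Subgroup (GL (Fin n) K)} (h : Good Q σ R) {a : ℕ} (hn : n = 2 ^ a)
    (f : G →* GL (Fin n) K) (hinj : Function.Injective f)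
    (hf : ∀ g : GL (Fin n) K, g ∈ f.range ↔ g ∈ Iso Q σ (Fin n) ∧ (g : Matrix (Fin n) (Fin n) K).det = 1)
    {G' : Type*} [Group G'] (π : G →* G') (hπ : Function.Surjective π)
    (H : Subgroup G') (hH : Odd H.index) : Cfsg.IsPronormal H := by
  haveI : Fact (Nat.Prime 2) := ⟨Nat.prime_two⟩
  have hP : IsPGroup 2 (R.comap f) := h.1.comap_of_injective f hinj
  have hself : ∀ g ∈ Subgroup.normalizer (R.comap f : Set G), g ∈ R.comap f := by
    intro g hg
    obtain ⟨hgI, hgd⟩ := (hf _).1 ⟨g, rfl⟩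
    refine h.mem_of_det (by rw [Fintype.card_fin, hn]) hgI hgd fun x hx hxd => ?_
    obtain ⟨y, rfl⟩ := (hf x).2 ⟨h.2.1 hx, hxd⟩
    rw [← map_inv, ← map_mul, ← map_mul]
    exact (Subgroup.mem_normalizer_iff.1 hg y).1 hx
  obtain ⟨S, hS⟩ := exists_sylow_eq hP fun g hg _ => hself g hg
  refine pronormal_all_map (p := 2) π hπ (pronormal_all' S fun K' hK g hg => ?_) H (not_two_dvd hH)
  rw [hS] at hK hg
  exact cj_eq_self_iff.2 (Subgroup.le_normalizer (hK (hself g hg)))

/-- `PSL` of two-power degree -/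
theorem pronormal_PSL_of_good {n : ℕ} {σ : K →+* K} {R : Subgroup (GL (Fin n) K)}
    (h : Good False σ R) {a : ℕ} (hn : n = 2 ^ a)
    (H : Subgroup (Matrix.ProjectiveSpecialLinearGroup (Fin n) K)) (hH : Odd H.index) : Cfsg.IsPronormal H := by
  refine selfNorm_pronormal h hn Matrix.SpecialLinearGroup.toGL Matrix.SpecialLinearGroup.toGL_injective
    (fun g => ⟨?_, fun hg => ⟨⟨g, hg.2⟩, Units.ext rfl⟩⟩)
    (QuotientGroup.mk' (Subgroup.center (Matrix.SpecialLinearGroup (Fin n) K)))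
    (QuotientGroup.mk'_surjective _) H hH
  rintro ⟨s, rfl⟩
  exact ⟨fun hQ => hQ.elim, s.2⟩

/-- `PSU` of two-power degree -/
theorem pronormal_PSU_of_good {n q : ℕ} {σ : K →+* K} (hσ : UFrob σ q) {R : Subgroup (GL (Fin n) K)}
    (h : Good True σ R) {a : ℕ} (hn : n = 2 ^ a)
    (H : Subgroup (Cfsg.PSU n K q)) (hH : Odd H.index) : Cfsg.IsPronormal H := by
  have key : ∀ g : GL (Fin n) K, g ∈ Cfsg.GU n K q ↔ g ∈ Iso True σ (Fin n) := by
    intro g
    rw [UnSplit.mem_GU_iff_mul hσ, mem_Iso]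
    constructor
    · intro hg _
      have := congrArg Matrix.transpose hg
      rwa [Matrix.transpose_mul, Matrix.transpose_transpose, Matrix.transpose_one] at this
    · intro hg
      have := congrArg Matrix.transpose (hg trivial)
      rwa [Matrix.transpose_mul, Matrix.transpose_transpose, Matrix.transpose_one] at this
  refine selfNorm_pronormal h hn (Matrix.SpecialLinearGroup.toGL.comp (Cfsg.SU n K q).subtype)
    (Matrix.SpecialLinearGroup.toGL_injective.comp Subtype.val_injective)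
    (fun g => ⟨?_, fun hg => ⟨⟨⟨g, hg.2⟩, fun u v => (key g).2 hg.1 u v⟩, Units.ext rfl⟩⟩)
    (QuotientGroup.mk' (Subgroup.center (Cfsg.SU n K q))) (QuotientGroup.mk'_surjective _) H hH
  rintro ⟨s, rfl⟩
  exact ⟨(key _).1 fun u v => s.2 u v, s.1.2⟩

omit [Finite K] in
theorem Tower.good [Finite K] {ι : Type v} [Fintype ι] [DecidableEq ι] {Q : Prop} {σ : K →+* K}
    {R : Subgroup (GL ι K)} (T : Tower Q σ R) : Good Q σ (dbl R) :=
  ⟨T.double.pgroup, T.double.le, T.double.scal_mem, fun _ hn h => T.normP hn h⟩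

/-- iteration -/
theorem exists_tower {Q : Prop} {σ : K →+* K} {R : Subgroup (GL (Fin 2) K)} (T : Tower Q σ R) :
    ∀ a : ℕ, ∃ R' : Subgroup (GL (Fin (2 ^ (a + 2))) K), Good Q σ R' := by
  suffices key : ∀ a : ℕ, ∃ (ι : Type) (_ : Fintype ι) (_ : DecidableEq ι) (R' : Subgroup (GL ι K)),
      Fintype.card ι = 2 ^ (a + 1) ∧ Tower Q σ R' by
    intro a
    obtain ⟨ι, _, _, R', hc, hT⟩ := key a
    exact ⟨_, hT.good.reindex (Fintype.equivFinOfCardEq (by rw [Fintype.card_sum, hc]; ring))⟩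
  intro a
  induction a with
  | zero => exact ⟨Fin 2, inferInstance, inferInstance, R, by simp, T⟩
  | succ a ih =>
    obtain ⟨ι, _, _, R', hc, hT⟩ := ih
    exact ⟨ι ⊕ ι, inferInstance, inferInstance, dbl R', by rw [Fintype.card_sum, hc]; ring, hT.double⟩

end CfsgLib.Geometry.Pron
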