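import Cfsg.Agent.Lib.Geometry.Pron.TowerBase
import Cfsg.Agent.Lib.Geometry.Pron.TowerGlue
import Cfsg.Agent.Lib.Involutions.SylowGUTwo
import Cfsg.Agent.Lib.Classical.GL2

/-!
The starting data in the four congruence cases, and the odd characteristic results.
-/

set_option autoImplicit false

namespace CfsgLib.Geometry.Pron

open Matrix CfsgLib.Classical CfsgLib.Classical.Unitary CfsgLib.Involutions

universe u

variable {K : Type u} [Field K]

local notation "M2" => Matrix (Fin 2) (Fin 2) K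

theorem diag_mem_Iso {Q : Prop} {σ : K →+* K} {a b : Kˣ}
    (h : Q → σ a * a = 1 ∧ σ b * b = 1) : diagHom K (a, b) ∈ Iso Q σ (Fin 2) := fun hQ => by
  obtain ⟨h1, h2⟩ := h hQ
  rw [diagHom_val]
  ext i j
  fin_cases i <;> fin_cases j <;> simp [Matrix.mul_apply, Fin.sum_univ_two, h1, h2]

theorem swap_mem_Iso {Q : Prop} {σ : K →+* K} : swapGL K ∈ Iso Q σ (Fin 2) := fun _ => by
  ext i j
  fin_cases i <;> fin_cases j <;> simp [swapGL, Matrix.mul_apply, Fin.sum_univ_two]

/-- a diagonal start -/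
noncomputable def baseDiag (Q : Prop) (σ : K →+* K) (h2 : (2 : K) ≠ 0) (i : Kˣ) (hi : (i : K) * i = -1)
    (hiQ : Q → σ i * i = 1) : Base Q σ where
  c := diagHom K (i, 1)
  τ := swapGL K
  c0 := diagHom K (i, i⁻¹)
  d := diagHom K (-1, 1)
  two := h2
  c_mem := diag_mem_Iso fun hQ => ⟨hiQ hQ, by simp⟩
  τ_mem := swap_mem_Iso
  c0_mem := diag_mem_Iso fun hQ => ⟨hiQ hQ, by rw [Units.val_inv_eq_inv_val, map_inv₀, ← mul_inv, hiQ hQ, inv_one]⟩
  d_mem := diag_mem_Iso fun _ => ⟨by simp, by simp⟩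
  c_two := ⟨2, by
    rw [← map_pow, show ((i, (1 : Kˣ)) ^ 2 ^ 2) = 1 from Prod.ext (Units.ext (by simp; linear_combination ((i : K) * i - 1) * hi)) (one_pow _), map_one]⟩
  c0_two := ⟨2, by
    have h4 : i ^ 2 ^ 2 = 1 := Units.ext (by simp; linear_combination ((i : K) * i - 1) * hi)
    rw [← map_pow, Prod.pow_mk, inv_pow, h4, inv_one]; exact map_one _⟩
  d_two := ⟨1, by rw [← map_pow, show (((-1 : Kˣ), (1 : Kˣ)) ^ 2 ^ 1) = 1 from Prod.ext (by simp) (one_pow _), map_one]⟩
  c0_comm := by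
    show _ * _ = _ * _
    rw [← map_mul, ← map_mul, mul_comm]
  d_comm := by
    show _ * _ = _ * _
    rw [← map_mul, ← map_mul, mul_comm]
  τ_sq := Units.ext (by simp [swapGL, Matrix.one_fin_two])
  τ_conj := by
    simp only [Units.val_mul, diagHom_val, swapGL]
    ext r s
    fin_cases r <;> fin_cases s <;> simp [Matrix.mul_apply, Fin.sum_univ_two, Matrix.trace_fin_two]
  disc := by
    simp only [diagHom_val, Matrix.trace_fin_two, Matrix.det_fin_two]
    intro h
    have : ((i : K) - 1) * ((i : K) - 1) = 0 := by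
      simp at h
      linear_combination h
    have h1 := sub_eq_zero.1 (mul_self_eq_zero.1 this)
    rw [h1] at hi
    exact h2 (by linear_combination hi)
  trace_ne := by
    simp only [diagHom_val, Matrix.trace_fin_two]
    intro h
    simp at h
    exact h2 (by linear_combination hi - ((i : K) - 1) * h)
  c0_det := by simp [diagHom_val, Matrix.det_fin_two]
  c0_sq := fun h => by
    have := congrArg (fun g : GL (Fin 2) K => (g : M2) 0 0) h
    simp [diagHom_val, Matrix.mul_apply, Fin.sum_univ_two] at this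
    exact h2 (by linear_combination hi - this)
  d_det := by simp [swapGL, diagHom_val, Matrix.det_fin_two]

/-- multiplication by a Gaussian number -/
def gMat (a b : K) : M2 := !![a, -b; b, a]

theorem gMat_comm {X : M2} (h : X * gMat 0 1 = gMat 0 1 * X) : X = gMat (X 0 0) (X 1 0) := by
  have e0 := congrFun (congrFun h 0) 0
  have e1 := congrFun (congrFun h 0) 1
  simp [gMat, Matrix.mul_apply, Fin.sum_univ_two] at e0 e1
  ext r s
  fin_cases r <;> fin_cases s <;> simp [gMat] <;> grind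

theorem gMat_commute (a b a' b' : K) : gMat a b * gMat a' b' = gMat a' b' * gMat a b := by
  ext r s
  fin_cases r <;> fin_cases s <;> simp [gMat, Matrix.mul_apply, Fin.sum_univ_two] <;> ring

theorem det_gMat (a b : K) : (gMat a b).det = a * a + b * b := by
  simp [gMat, Matrix.det_fin_two]

theorem exists_two_power_odd {G : Type*} [Group G] [Finite G] (x : G) :
    ∃ m : ℕ, Odd m ∧ ∃ k : ℕ, (x ^ m) ^ 2 ^ k = 1 := by
  obtain ⟨k, m, hm, hx⟩ := Nat.exists_eq_two_pow_mul_odd (orderOf_pos x).ne'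
  exact ⟨m, hm, k, by rw [← pow_mul, mul_comm, ← hx, pow_orderOf_eq_one]⟩

variable [Finite K]

/-- the Gaussian start -/
theorem exists_baseGauss (Q : Prop) (σ : K →+* K) (hQ : ¬ Q) (h2 : (2 : K) ≠ 0)
    (hns : ∀ x : K, x * x ≠ -1) :
    ∃ B : Base Q σ, (B.c0 : M2) = gMat 0 1 := by
  have hI : ∀ g : GL (Fin 2) K, g ∈ Iso Q σ (Fin 2) := fun g h => absurd h hQ
  obtain ⟨x, y, hxy⟩ : ∃ x y : K, x * x + y * y = -1 := by
    have := Fintype.ofFinite K
    obtain ⟨x, y, h⟩ := FiniteField.exists_root_sum_quadratic (R := K) (f := Polynomial.X ^ 2)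
      (g := Polynomial.X ^ 2 + 1) (by simp)
      (by rw [show (1 : Polynomial K) = Polynomial.C 1 from rfl, Polynomial.degree_X_pow_add_C (by norm_num : (0 : ℕ) < 2)]; rfl)
      (by
        have h2' : ringChar K ≠ 2 := fun hc => h2 (by
          haveI : CharP K 2 := ringChar.of_eq hc
          exact CharTwo.two_eq_zero)
        exact Nat.odd_iff.1 (Nat.odd_iff.2 (FiniteField.odd_card_of_char_ne_two h2')))
    simp at h
    exact ⟨x, y, by linear_combination h⟩
  let u : GL (Fin 2) K := Matrix.GeneralLinearGroup.mkOfDetNeZero (gMat x y) (by rw [det_gMat, hxy]; simp)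
  let J : GL (Fin 2) K := Matrix.GeneralLinearGroup.mkOfDetNeZero (gMat 0 1) (by rw [det_gMat]; simp)
  have hJv : (J : M2) = gMat 0 1 := rfl
  have huJ : Commute u J := Units.ext (gMat_commute x y 0 1)
  haveI : Finite (GL (Fin 2) K) := Finite.of_injective (fun g : GL (Fin 2) K => (g : M2)) Units.val_injective
  obtain ⟨m, hm, hk⟩ := exists_two_power_odd u
  set c := u ^ m with hc
  have hcJ : Commute c J := huJ.pow_left m
  obtain ⟨a, b, hab⟩ : ∃ a b : K, (c : M2) = gMat a b :=
    ⟨_, _, gMat_comm (congrArg (fun g : GL (Fin 2) K => (g : M2)) hcJ.eq)⟩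
  have hdet : (c : M2).det = -1 := by
    rw [hc, Units.val_pow_eq_pow_val, det_pow, show (u : M2) = gMat x y from rfl, det_gMat, hxy, hm.neg_one_pow]
  have hab1 : a * a + b * b = -1 := by rw [← det_gMat, ← hab]; exact hdet
  have ha : a ≠ 0 := fun h => hns b (by rw [h] at hab1; linear_combination hab1)
  have hb : b ≠ 0 := fun h => hns a (by rw [h] at hab1; linear_combination hab1)
  let τ : GL (Fin 2) K := diagHom K (1, -1)
  have hJ2 : J ^ 2 ^ 2 = 1 := by
    refine Units.ext ?_
    rw [Units.val_pow_eq_pow_val, hJv, Units.val_one]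
    ext r s
    fin_cases r <;> fin_cases s <;> simp [gMat, pow_succ, Matrix.mul_apply, Fin.sum_univ_two]
  refine ⟨{ c := c, τ := τ, c0 := J, d := c, two := h2, c_mem := hI _, τ_mem := hI _, c0_mem := hI _,
            d_mem := hI _, c_two := hk, c0_two := ⟨2, hJ2⟩, d_two := hk, c0_comm := hcJ.symm,
            d_comm := Commute.refl _, τ_sq := ?_, τ_conj := ?_, disc := ?_, trace_ne := ?_,
            c0_det := ?_, c0_sq := ?_, d_det := ?_ }, hJv⟩
  · show diagHom K (1, -1) * diagHom K (1, -1) = 1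
    rw [← map_mul, Prod.mk_mul_mk, one_mul, neg_mul_neg, one_mul]
    exact map_one _
  · simp only [τ, Units.val_mul, diagHom_val, hab]
    ext r s
    fin_cases r <;> fin_cases s <;> simp [gMat, Matrix.mul_apply, Fin.sum_univ_two, Matrix.trace_fin_two]
  · rw [hdet, hab]
    simp only [gMat, Matrix.trace_fin_two]
    intro h
    simp at h
    have : 2 * 2 * (b * b) = 0 := by linear_combination 4 * hab1 - h
    simp [h2, hb] at this
  · rw [hab]
    simp only [gMat, Matrix.trace_fin_two]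
    intro h
    simp at h
    exact ha ((mul_eq_zero.1 (show (2 : K) * a = 0 by linear_combination h)).resolve_left h2)
  · rw [hJv, det_gMat]; simp
  · intro h
    have := congrArg (fun g : GL (Fin 2) K => (g : M2) 0 0) h
    simp [hJv, gMat, Matrix.mul_apply, Fin.sum_univ_two] at this
    exact h2 (by linear_combination -this)
  · show (diagHom K (1, -1) : M2).det * (c : M2).det = 1
    rw [hdet]
    simp [diagHom_val, Matrix.det_fin_two]

/-- the start in isotropic coordinates -/
theorem exists_baseHyp {q : ℕ} {σ : K →+* K} (hσ : UFrob σ q) (hK : Nat.card K = q ^ 2) (hq : q % 4 = 1) :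
    Nonempty (Base True σ) := by
  haveI := Fintype.ofFinite K
  have hq5 : 5 ≤ q := by
    have := two_le_q hK
    omega
  have hcardU : Nat.card Kˣ = (q + 1) * (q - 1) := by
    rw [Nat.card_units, hK, sq_sub_one]
  obtain ⟨k, hk⟩ : ∃ k, q = 4 * k + 1 := ⟨q / 4, by omega⟩
  obtain ⟨l, hl⟩ : ∃ l : Kˣ, (l : K) ^ (q - 1) = -1 := by
    obtain ⟨x, hx⟩ := exists_units_order (F := K) (d := 2 * (q - 1)) (by
      rw [hcardU]; exact mul_dvd_mul_right ⟨2 * k + 1, by omega⟩ _)
    refine ⟨x, ?_⟩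
    have h1 : ((x : K) ^ (q - 1)) ^ 2 = 1 := by
      rw [← pow_mul, mul_comm, ← hx, ← Units.val_pow_eq_pow_val, pow_orderOf_eq_one, Units.val_one]
    refine (sq_eq_one_iff.1 h1).resolve_left fun h => ?_
    have h' : x ^ (q - 1) = 1 := Units.ext (by simpa using h)
    have := Nat.le_of_dvd (by omega) (orderOf_dvd_of_pow_eq_one h')
    omega
  obtain ⟨m, hm, hk2⟩ := exists_two_power_odd l
  set L := l ^ m with hL
  have hLσ : σ (L : K) = -(L : K) := by
    have : (L : K) ^ (q - 1) = -1 := by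
      rw [hL, Units.val_pow_eq_pow_val, ← pow_mul, mul_comm, pow_mul, hl, hm.neg_one_pow]
    rw [hσ.pow, show q = q - 1 + 1 by omega, pow_succ, this]
    ring
  have hL2 : (L : K) * L ≠ 1 ∧ (L : K) * L ≠ -1 := by
    have : (L : K) ^ 4 ≠ 1 := by
      intro h
      have h1 : (L : K) ^ (q - 1) = 1 := by
        rw [show q - 1 = 4 * k by omega, pow_mul, h, one_pow]
      have h2 : (L : K) ^ (q - 1) = -1 := by
        rw [hL, Units.val_pow_eq_pow_val, ← pow_mul, mul_comm, pow_mul, hl, hm.neg_one_pow]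
      have h3 : (2 : K) = 0 := by linear_combination (h1.symm.trans h2)
      have hodd : Odd (Nat.card K) := by rw [hK]; exact Odd.pow (Nat.odd_iff.2 (by omega))
      exact two_ne_zero_of_odd_card hodd h3
    exact ⟨fun h => this (by linear_combination ((L : K) * L + 1) * h),
      fun h => this (by linear_combination ((L : K) * L - 1) * h)⟩
  have h2 : (2 : K) ≠ 0 := two_ne_zero_of_odd_card (by rw [hK]; exact Odd.pow (Nat.odd_iff.2 (by omega)))
  obtain ⟨i, hi, hiσ⟩ : ∃ i : Kˣ, (i : K) * i = -1 ∧ σ (i : K) = i := by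
    obtain ⟨x, hx⟩ := exists_units_order (F := K) (d := 4) (by
      rw [hcardU]; exact Dvd.dvd.mul_left ⟨k, by omega⟩ _)
    have hx4 : (x : K) ^ 4 = 1 := by
      rw [← Units.val_pow_eq_pow_val, ← hx, pow_orderOf_eq_one, Units.val_one]
    refine ⟨x, ?_, ?_⟩
    · refine (mul_self_eq_one_iff.1 (show ((x : K) * x) * ((x : K) * x) = 1 by
        linear_combination hx4)).resolve_left fun h => ?_
      have h' : x ^ 2 = 1 := Units.ext (by rw [Units.val_pow_eq_pow_val, sq, h, Units.val_one])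
      have := Nat.le_of_dvd two_pos (orderOf_dvd_of_pow_eq_one h')
      omega
    · rw [hσ.pow, hk, pow_succ, pow_mul, hx4, one_pow, one_mul]
  obtain ⟨w, hw⟩ : ∃ w : Kˣ, σ (w : K) * w = -1 := by
    obtain ⟨x, hx⟩ := exists_units_order (F := K) (d := 2 * (q + 1)) (by
      rw [hcardU, mul_comm (q + 1)]; exact mul_dvd_mul_right ⟨2 * k, by omega⟩ _)
    refine ⟨x, ?_⟩
    have h1 : ((x : K) ^ (q + 1)) ^ 2 = 1 := by
      rw [← pow_mul, mul_comm, ← hx, ← Units.val_pow_eq_pow_val, pow_orderOf_eq_one, Units.val_one]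
    rw [hσ.pow, ← pow_succ]
    refine (sq_eq_one_iff.1 h1).resolve_left fun h => ?_
    have h' : x ^ (q + 1) = 1 := Units.ext (by simpa using h)
    have := Nat.le_of_dvd (by omega) (orderOf_dvd_of_pow_eq_one h')
    omega
  let g : GL (Fin 2) K := Matrix.GeneralLinearGroup.mkOfDetNeZero !![1, 1; (w : K), -(w : K)] (by
    simp [Matrix.det_fin_two]
    intro h
    exact h2 ((mul_eq_zero.1 (show (2 : K) * (w : K) = 0 by linear_combination -h)).resolve_right w.ne_zero))
  have hg : ((g : M2).map σ)ᵀ * (g : M2) = !![0, 2; 2, 0] := by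
    ext r s
    fin_cases r <;> fin_cases s <;> simp [g, Matrix.mul_apply, Fin.sum_univ_two] <;> grind
  have hmem : ∀ D : GL (Fin 2) K, ((D : M2).map σ)ᵀ * !![0, 2; 2, 0] * (D : M2) = !![0, 2; 2, 0] →
      g * D * g⁻¹ ∈ Iso True σ (Fin 2) := by
    intro D hD _
    have hgi : (g : M2) * ((g⁻¹ : GL (Fin 2) K) : M2) = 1 := Units.mul_inv g
    calc (((g * D * g⁻¹ : GL (Fin 2) K) : M2).map σ)ᵀ * ((g * D * g⁻¹ : GL (Fin 2) K) : M2)
        = (((g⁻¹ : GL (Fin 2) K) : M2).map σ)ᵀ * (((D : M2).map σ)ᵀ * (((g : M2).map σ)ᵀ * (g : M2)) *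
            (D : M2)) * ((g⁻¹ : GL (Fin 2) K) : M2) := by
          simp only [Units.val_mul, Matrix.map_mul, Matrix.transpose_mul, mul_assoc]
      _ = ((((g : M2) * ((g⁻¹ : GL (Fin 2) K) : M2)).map σ)ᵀ) * ((g : M2) * ((g⁻¹ : GL (Fin 2) K) : M2)) := by
          rw [hg, hD, ← hg]
          simp only [Matrix.map_mul, Matrix.transpose_mul, mul_assoc]
      _ = 1 := by rw [hgi]; simp
  let φ : GL (Fin 2) K →* GL (Fin 2) K := (MulAut.conj g).toMonoidHom
  let di : Kˣ → Kˣ × Kˣ := fun a => (a, (Units.map (σ : K →* K) a)⁻¹)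
  have hD : ∀ a : Kˣ, ((diagHom K (di a) : GL (Fin 2) K) : M2).map σ = !![σ a, 0; 0, (a : K)⁻¹] := by
    intro a
    rw [diagHom_val]
    ext r s
    fin_cases r <;> fin_cases s <;> simp [map_inv₀, hσ.invol]
  have hdmem : ∀ a : Kˣ, φ (diagHom K (di a)) ∈ Iso True σ (Fin 2) := fun a => hmem _ (by
    rw [hD, diagHom_val]
    ext r s
    fin_cases r <;> fin_cases s <;> simp [di, Matrix.mul_apply, Fin.sum_univ_two] <;> field_simp)
  have hdet : ∀ x : GL (Fin 2) K, ((φ x : GL (Fin 2) K) : M2).det = (x : M2).det := fun x => det_conj g x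
  have htr : ∀ x : GL (Fin 2) K, ((φ x : GL (Fin 2) K) : M2).trace = (x : M2).trace := fun x => by
    show ((g * x * g⁻¹ : GL (Fin 2) K) : M2).trace = _
    rw [Units.val_mul, Units.val_mul, Matrix.trace_mul_cycle, Units.inv_mul, Matrix.one_mul]
  have hci : ((diagHom K (di i) : GL (Fin 2) K) : M2) = !![(i : K), 0; 0, (i : K)⁻¹] := by
    rw [diagHom_val]; simp [di, hiσ]
  have hcL : ((diagHom K (di L) : GL (Fin 2) K) : M2) = !![(L : K), 0; 0, -(L : K)⁻¹] := by
    rw [diagHom_val]; simp [di, hLσ, inv_neg]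
  have hdi : ∀ (a : Kˣ) (n : ℕ), a ^ n = 1 → di a ^ n = 1 := fun a n h => by
    show (a, (Units.map (σ : K →* K) a)⁻¹) ^ n = 1
    rw [Prod.pow_mk, inv_pow, ← map_pow, h, map_one, inv_one]
    rfl
  have hτ2 : φ (swapGL K) * φ (swapGL K) = 1 := by
    rw [← map_mul, show swapGL K * swapGL K = 1 from Units.ext (by simp [swapGL, Matrix.one_fin_two]), map_one]
  refine ⟨{ c := φ (diagHom K (di L)), τ := φ (swapGL K), c0 := φ (diagHom K (di i)),
            d := φ (diagHom K (di L)), two := h2, c_mem := hdmem L, τ_mem := hmem _ ?_, c0_mem := hdmem i,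
            d_mem := hdmem L, c_two := ?_, c0_two := ⟨2, ?_⟩, d_two := ?_, c0_comm := ?_,
            d_comm := Commute.refl _, τ_sq := hτ2, τ_conj := ?_, disc := ?_, trace_ne := ?_,
            c0_det := ?_, c0_sq := ?_, d_det := ?_ }⟩
  · ext r s
    fin_cases r <;> fin_cases s <;> simp [swapGL, Matrix.mul_apply, Fin.sum_univ_two]
  · obtain ⟨k, hk'⟩ := hk2
    exact ⟨k, by rw [← map_pow, ← map_pow, hdi L _ hk', map_one, map_one]⟩
  · rw [← map_pow, ← map_pow, hdi i _ (Units.ext (by simp; linear_combination ((i : K) * i - 1) * hi)),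
      map_one, map_one]
  · obtain ⟨k, hk'⟩ := hk2
    exact ⟨k, by rw [← map_pow, ← map_pow, hdi L _ hk', map_one, map_one]⟩
  · show _ * _ = _ * _
    rw [← map_mul, ← map_mul, ← map_mul, ← map_mul, mul_comm]
  · rw [← map_mul, ← map_mul, htr]
    show ((g * (swapGL K * diagHom K (di L) * swapGL K) * g⁻¹ : GL (Fin 2) K) : M2) =
      _ - ((g * diagHom K (di L) * g⁻¹ : GL (Fin 2) K) : M2)
    have e : ((swapGL K * diagHom K (di L) * swapGL K : GL (Fin 2) K) : M2) =
        ((diagHom K (di L) : GL (Fin 2) K) : M2).trace • 1 - ((diagHom K (di L) : GL (Fin 2) K) : M2) := by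
      simp only [Units.val_mul, hcL, swapGL]
      ext r s
      fin_cases r <;> fin_cases s <;> simp [Matrix.mul_apply, Fin.sum_univ_two, Matrix.trace_fin_two]
    rw [Units.val_mul, Units.val_mul, e, Units.val_mul, Units.val_mul]
    simp [Matrix.mul_sub, Matrix.sub_mul]
  · rw [htr, hdet, hcL]
    intro h
    simp [Matrix.trace_fin_two, Matrix.det_fin_two] at h
    have h0 : ((L : K) + (L : K)⁻¹) * ((L : K) + (L : K)⁻¹) = 0 := by
      have hl0 : (L : K) ≠ 0 := L.ne_zero
      field_simp at h ⊢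
      linear_combination h
    have h1 := mul_self_eq_zero.1 h0
    field_simp at h1
    exact hL2.2 (by linear_combination h1)
  · rw [htr, hcL]
    intro h
    simp [Matrix.trace_fin_two] at h
    field_simp at h
    exact hL2.1 (by linear_combination h)
  · rw [hdet, hci]; simp [Matrix.det_fin_two]
  · intro h
    rw [← map_mul, ← φ.map_one] at h
    have := congrArg (fun g : GL (Fin 2) K => (g : M2) 0 0) ((MulAut.conj g).injective h)
    simp [hci, Matrix.mul_apply, Fin.sum_univ_two] at this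
    exact h2 (by linear_combination hi - this)
  · rw [hdet, hdet, hcL]
    simp [swapGL, Matrix.det_fin_two]

/-- `PSL`, odd characteristic, degree a power of two at least four -/
theorem pronormal_PSL_odd (h2 : (2 : K) ≠ 0) {a : ℕ}
    (H : Subgroup (Matrix.ProjectiveSpecialLinearGroup (Fin (2 ^ (a + 2))) K)) (hH : Odd H.index) :
    Cfsg.IsPronormal H := by
  have hT : ∃ R : Subgroup (GL (Fin 2) K), Tower False (RingHom.id K) R := by
    by_cases hi : ∃ x : K, x * x = -1
    · obtain ⟨x, hx⟩ := hi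
      exact ⟨_, (baseDiag False (RingHom.id K) h2 (Units.mk0 x (fun h => by simp [h] at hx)) hx False.elim).tower⟩
    · push_neg at hi
      obtain ⟨B, -⟩ := exists_baseGauss False (RingHom.id K) id h2 hi
      exact ⟨_, B.tower⟩
  obtain ⟨R, hT⟩ := hT
  obtain ⟨R', hR'⟩ := exists_tower hT a
  exact pronormal_PSL_of_good hR' rfl H hH

/-- `PSU`, odd characteristic, degree a power of two at least four -/
theorem pronormal_PSU_odd {q : ℕ} (hK : Nat.card K = q ^ 2) (hq : Odd q) {a : ℕ}
    (H : Subgroup (Cfsg.PSU (2 ^ (a + 2)) K q)) (hH : Odd H.index) : Cfsg.IsPronormal H := by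
  obtain ⟨σ, hσ⟩ := exists_uFrob hK
  have h2 : (2 : K) ≠ 0 := two_ne_zero_of_odd_card (by rw [hK]; exact hq.pow)
  have hT : ∃ R : Subgroup (GL (Fin 2) K), Tower True σ R := by
    rcases Nat.odd_mod_four_iff.1 (Nat.odd_iff.1 hq) with h | h
    · obtain ⟨B⟩ := exists_baseHyp hσ hK h
      exact ⟨_, B.tower⟩
    · obtain ⟨k, hk⟩ : ∃ k, q + 1 = 4 * k := ⟨(q + 1) / 4, by omega⟩
      obtain ⟨x, hx⟩ := exists_units_order (F := K) (d := 4) (by
        rw [Nat.card_units, hK, sq_sub_one, hk, mul_assoc]; exact dvd_mul_right _ _)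
      have hx4 : (x : K) ^ 4 = 1 := by
        rw [← Units.val_pow_eq_pow_val, ← hx, pow_orderOf_eq_one, Units.val_one]
      have hxx : (x : K) * x = -1 := by
        refine (mul_self_eq_one_iff.1 (show ((x : K) * x) * ((x : K) * x) = 1 by
          linear_combination hx4)).resolve_left fun h' => ?_
        have h'' : x ^ 2 = 1 := Units.ext (by rw [Units.val_pow_eq_pow_val, sq, h', Units.val_one])
        have := Nat.le_of_dvd two_pos (orderOf_dvd_of_pow_eq_one h'')
        omega
      exact ⟨_, (baseDiag True σ h2 x hxx fun _ => by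
        rw [hσ.pow, ← pow_succ, hk, pow_mul, hx4, one_pow]).tower⟩
  obtain ⟨R, hT⟩ := hT
  obtain ⟨R', hR'⟩ := exists_tower hT a
  exact pronormal_PSU_of_good hσ hR' rfl H hH

end CfsgLib.Geometry.Pron
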