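import Cfsg.Agent.Lib.Geometry.Pron.TowerStep

/-!
The doubling step: normalisers of the part of determinant one.
-/

set_option autoImplicit false

namespace CfsgLib.Geometry.Pron

open Matrix

universe u v

variable {K : Type u} [Field K] [Finite K] {ι : Type v} [Fintype ι] [DecidableEq ι]

local notation "M2ι" => Matrix (ι ⊕ ι) (ι ⊕ ι) K

omit [Finite K] in
theorem det_inv_eq_one {κ : Type v} [Fintype κ] [DecidableEq κ] {x : GL κ K}
    (hx : (x : Matrix κ κ K).det = 1) : ((x⁻¹ : GL κ K) : Matrix κ κ K).det = 1 := by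
  have := congrArg Matrix.det (Units.mul_inv x)
  rwa [det_mul, hx, one_mul, det_one] at this

omit [Finite K] in
theorem det_mul_inv_self {κ : Type v} [Fintype κ] [DecidableEq κ] (x : GL κ K) :
    (x : Matrix κ κ K).det * ((x⁻¹ : GL κ K) : Matrix κ κ K).det = 1 := by
  rw [← det_mul, Units.mul_inv, det_one]

omit [Finite K] in
theorem det_conj {κ : Type v} [Fintype κ] [DecidableEq κ] (n x : GL κ K) :
    ((n * x * n⁻¹ : GL κ K) : Matrix κ κ K).det = (x : Matrix κ κ K).det := by
  rw [Units.val_mul, Units.val_mul, det_mul, det_mul, mul_right_comm, det_mul_inv_self, one_mul]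

/-- normalisers of the part of determinant one are scalar up to the group -/
theorem Tower.normP {Q : Prop} {σ : K →+* K} {R : Subgroup (GL ι K)} (T : Tower Q σ R)
    {n : GL (ι ⊕ ι) K} (hn : n ∈ Iso Q σ (ι ⊕ ι))
    (hnorm : ∀ x ∈ dbl R, (x : M2ι).det = 1 → n * x * n⁻¹ ∈ dbl R) :
    ∃ r ∈ dbl R, ∃ c : Kˣ, n = r * scal c := by
  classical
  have hne := T.ne
  have := T.even
  haveI : Finite (GL (ι ⊕ ι) K) :=
    Finite.of_injective (fun g : GL (ι ⊕ ι) K => (g : M2ι)) Units.val_injective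
  -- the inverse conjugation
  have hrev : ∀ x ∈ dbl R, (x : M2ι).det = 1 →
      n⁻¹ * x * n ∈ dbl R ∧ ((n⁻¹ * x * n : GL (ι ⊕ ι) K) : M2ι).det = 1 := by
    intro x hx hd
    let P : Set (GL (ι ⊕ ι) K) := {y | y ∈ dbl R ∧ (y : M2ι).det = 1}
    let f : P → P := fun y => ⟨n * y.1 * n⁻¹, hnorm _ y.2.1 y.2.2, by rw [det_conj]; exact y.2.2⟩
    have hinj : Function.Injective f := fun a b h => Subtype.ext (by
      have := congrArg Subtype.val h
      simpa [f] using this)
    obtain ⟨⟨y, hy, hyd⟩, he⟩ := Finite.surjective_of_injective hinj ⟨x, hx, hd⟩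
    have he' : n * y * n⁻¹ = x := congrArg Subtype.val he
    rw [← he', show n⁻¹ * (n * y * n⁻¹) * n = y by group]
    exact ⟨hy, hyd⟩
  obtain ⟨x1, hx1, x2, hx2, hd1, hd2, hne12⟩ := T.noncomm
  have hswdet := det_sw (K := K) T.even
  -- images of the blocks
  have himg : ∀ C : Submodule K (ι ⊕ ι → K), (C = sA ∨ C = sB) →
      C.map (Matrix.mulVecLin (n : M2ι)) = sA ∨ C.map (Matrix.mulVecLin (n : M2ι)) = sB := by
    intro C hC
    set W := C.map (Matrix.mulVecLin (n : M2ι)) with hW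
    have hfix : ∀ p q : GL (ι ⊕ ι) K, p ∈ dbl R → q ∈ dbl R → (p : M2ι).det = 1 → (q : M2ι).det = 1 →
        ∀ v ∈ W, ((p * q * p⁻¹ * q⁻¹ : GL (ι ⊕ ι) K) : M2ι) *ᵥ v ∈ W := by
      rintro p q hp hq hpd hqd _ ⟨w, hw, rfl⟩
      obtain ⟨a, b, hab⟩ := commutator_blockD (hrev p hp hpd).1 (hrev q hq hqd).1
      have e : p * q * p⁻¹ * q⁻¹ * n = n * blockD (a, b) := by rw [← hab]; group
      refine ⟨((blockD (a, b) : GL (ι ⊕ ι) K) : M2ι) *ᵥ w, ?_, ?_⟩
      · rcases hC with rfl | rfl
        · exact blockD_fix_sA a b hw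
        · exact blockD_fix_sB a b hw
      · simp only [Matrix.mulVecLin_apply, Matrix.mulVec_mulVec, ← Units.val_mul, e]
    have hc : x1 * x2 * x1⁻¹ * x2⁻¹ ≠ 1 := fun h => hne12 (by
      rw [mul_inv_eq_one, mul_inv_eq_iff_eq_mul] at h
      exact h)
    rcases inv_sub_cases T.irred (W := W) (fun x hx hd v hv => by
        have e : sw * blockD (x⁻¹, 1) * sw⁻¹ * (blockD (x⁻¹, 1))⁻¹ = blockD (x, x⁻¹) := by
          rw [sw_inv, sw_blockD, mul_assoc (blockD _), sw_mul_sw, mul_one, ← map_inv, ← map_mul]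
          simp
        rw [← e]
        refine hfix _ _ sw_mem_dbl (blockD_mem_dbl (inv_mem hx) (one_mem _)) hswdet ?_ v hv
        rw [det_blockD, det_inv_eq_one hd, Units.val_one, det_one, mul_one])
      hc (fun v hv => by
        have e : blockD (x1, 1) * blockD (x2, 1) * (blockD (x1, (1 : GL ι K)))⁻¹ * (blockD (x2, 1))⁻¹ =
            blockD (x1 * x2 * x1⁻¹ * x2⁻¹, 1) := by
          rw [← map_inv, ← map_inv, ← map_mul, ← map_mul, ← map_mul]
          simp
        rw [← e]
        refine hfix _ _ (blockD_mem_dbl hx1 (one_mem _)) (blockD_mem_dbl hx2 (one_mem _)) ?_ ?_ v hv <;>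
          rw [det_blockD, Units.val_one, det_one, mul_one] <;> assumption)
      with h | h | h | h
    · exfalso
      obtain ⟨i⟩ := hne
      have hv : ∃ v ∈ C, v ≠ 0 := by
        rcases hC with rfl | rfl
        · exact ⟨Pi.single (Sum.inl i) 1, mem_sA.2 fun j => by simp, by simp⟩
        · exact ⟨Pi.single (Sum.inr i) 1, mem_sB.2 fun j => by simp, by simp⟩
      obtain ⟨v, hvC, hv0⟩ := hv
      have : (n : M2ι) *ᵥ v ∈ W := ⟨v, hvC, rfl⟩
      rw [h, Submodule.mem_bot] at this
      have h' := congrArg (((n⁻¹ : GL (ι ⊕ ι) K) : M2ι) *ᵥ ·) this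
      simp only [Matrix.mulVec_mulVec, Units.inv_mul, Matrix.one_mulVec, Matrix.mulVec_zero] at h'
      exact hv0 h'
    · exact Or.inl h
    · exact Or.inr h
    · exfalso
      obtain ⟨i⟩ := hne
      have key : ∀ w : ι ⊕ ι → K, w ∈ C := by
        intro w
        have : (n : M2ι) *ᵥ w ∈ W := h ▸ Submodule.mem_top
        obtain ⟨v, hv, he⟩ := this
        have h' := congrArg (((n⁻¹ : GL (ι ⊕ ι) K) : M2ι) *ᵥ ·) he
        simp only [Matrix.mulVecLin_apply, Matrix.mulVec_mulVec, Units.inv_mul, Matrix.one_mulVec] at h'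
        exact h' ▸ hv
      rcases hC with rfl | rfl
      · have := mem_sA.1 (key (Pi.single (Sum.inr i) 1)) i
        simp at this
      · have := mem_sB.1 (key (Pi.single (Sum.inl i) 1)) i
        simp at this
  have hAB : (sA : Submodule K (ι ⊕ ι → K)) ≠ sB := by
    intro h
    obtain ⟨i⟩ := hne
    have h1 : (Pi.single (Sum.inl i) 1 : ι ⊕ ι → K) ∈ sA := mem_sA.2 fun j => by simp
    rw [h] at h1
    simpa using mem_sB.1 h1 i
  -- reduce to elements fixing both blocks
  have hswap : ∀ C : Submodule K (ι ⊕ ι → K), C = sB →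
      C.map (Matrix.mulVecLin ((sw : GL (ι ⊕ ι) K) : M2ι)) = sA := by
    rintro C rfl
    refine le_antisymm ?_ fun v hv => ?_
    · rintro _ ⟨v, hv, rfl⟩
      rw [Matrix.mulVecLin_apply, sw_mulVec, mem_sA]
      exact fun i => mem_sB.1 hv i
    · refine ⟨((sw : GL (ι ⊕ ι) K) : M2ι) *ᵥ v, ?_, ?_⟩
      · rw [sw_mulVec]
        exact mem_sB.2 fun i => mem_sA.1 hv i
      · rw [Matrix.mulVecLin_apply, Matrix.mulVec_mulVec, ← Units.val_mul, sw_mul_sw, Units.val_one,
          Matrix.one_mulVec]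
  obtain ⟨e, he, heD⟩ : ∃ e ∈ dbl R, ∃ a b, n = e * blockD (a, b) := by
    obtain ⟨e, he, h1⟩ : ∃ e ∈ dbl R,
        (sA : Submodule K (ι ⊕ ι → K)).map (Matrix.mulVecLin ((e * n : GL (ι ⊕ ι) K) : M2ι)) = sA := by
      rcases himg sA (Or.inl rfl) with h | h
      · exact ⟨1, one_mem _, by rw [one_mul]; exact h⟩
      · refine ⟨sw, sw_mem_dbl, ?_⟩
        rw [Units.val_mul, Matrix.mulVecLin_mul, Submodule.map_comp]
        exact hswap _ h
    set m := e * n with hm
    have hinjm : Function.Injective (Matrix.mulVecLin (m : M2ι)) := fun a b h => by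
      have h' := congrArg (((m⁻¹ : GL (ι ⊕ ι) K) : M2ι) *ᵥ ·) h
      simpa [Matrix.mulVec_mulVec, ← Units.val_mul] using h'
    have h2 : (sB : Submodule K (ι ⊕ ι → K)).map (Matrix.mulVecLin (m : M2ι)) = sB := by
      have hn2 := himg sB (Or.inr rfl)
      rcases himg sA (Or.inl rfl) with hA | hA
      · rcases hn2 with hB | hB
        · exact absurd (Submodule.map_injective_of_injective (f := Matrix.mulVecLin (n : M2ι))
            (fun a b h => by
              have h' := congrArg (((n⁻¹ : GL (ι ⊕ ι) K) : M2ι) *ᵥ ·) h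
              simpa [Matrix.mulVec_mulVec, ← Units.val_mul] using h') (hA.trans hB.symm)) hAB
        · obtain ⟨a, ha, b, hb, rfl | rfl⟩ := he
          · rw [hm, Units.val_mul, Matrix.mulVecLin_mul, Submodule.map_comp, hB]
            refine le_antisymm ?_ fun v hv => ?_
            · rintro _ ⟨v, hv, rfl⟩
              exact blockD_fix_sB a b hv
            · refine ⟨_, blockD_fix_sB a⁻¹ b⁻¹ hv, ?_⟩
              rw [Matrix.mulVecLin_apply, Matrix.mulVec_mulVec, ← Units.val_mul, ← map_mul,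
                show (a, b) * (a⁻¹, b⁻¹) = ((1 : GL ι K × GL ι K)) by simp, map_one, Units.val_one,
                Matrix.one_mulVec]
          · exfalso
            rw [hm, Units.val_mul, Matrix.mulVecLin_mul, Submodule.map_comp, hA] at h1
            obtain ⟨i⟩ := hne
            have : ((blockD (a, b) * sw : GL (ι ⊕ ι) K) : M2ι) *ᵥ Pi.single (Sum.inl i) 1 ∈
                (sA : Submodule K (ι ⊕ ι → K)) := h1 ▸ ⟨_, mem_sA.2 fun j => by simp, rfl⟩
            have h3 : ((blockD (a, b) * sw : GL (ι ⊕ ι) K) : M2ι) *ᵥ Pi.single (Sum.inl i) 1 ∈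
                (sB : Submodule K (ι ⊕ ι → K)) := by
              rw [Units.val_mul, ← Matrix.mulVec_mulVec, sw_mulVec]
              refine blockD_fix_sB a b (mem_sB.2 fun j => ?_)
              simp
            have h4 : ((blockD (a, b) * sw : GL (ι ⊕ ι) K) : M2ι) *ᵥ Pi.single (Sum.inl i) 1 = 0 := by
              funext j
              rcases j with j | j
              · exact mem_sB.1 h3 j
              · exact mem_sA.1 this j
            have h5 := congrArg ((((blockD (a, b) * sw)⁻¹ : GL (ι ⊕ ι) K) : M2ι) *ᵥ ·) h4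
            simp only [Matrix.mulVec_mulVec, ← Units.val_mul, inv_mul_cancel, Units.val_one,
              Matrix.one_mulVec, Matrix.mulVec_zero] at h5
            simpa using congrFun h5 (Sum.inl i)
      · rcases hn2 with hB | hB
        · obtain ⟨a, ha, b, hb, rfl | rfl⟩ := he
          · exfalso
            rw [hm, Units.val_mul, Matrix.mulVecLin_mul, Submodule.map_comp, hA] at h1
            obtain ⟨i⟩ := hne
            have : ((blockD (a, b) : GL (ι ⊕ ι) K) : M2ι) *ᵥ Pi.single (Sum.inr i) 1 ∈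
                (sA : Submodule K (ι ⊕ ι → K)) := h1 ▸ ⟨_, mem_sB.2 fun j => by simp, rfl⟩
            have h3 := blockD_fix_sB a b (v := Pi.single (Sum.inr i) 1) (mem_sB.2 fun j => by simp)
            have h4 : ((blockD (a, b) : GL (ι ⊕ ι) K) : M2ι) *ᵥ Pi.single (Sum.inr i) 1 = 0 := by
              funext j
              rcases j with j | j
              · exact mem_sB.1 h3 j
              · exact mem_sA.1 this j
            have h5 := congrArg ((((blockD (a, b))⁻¹ : GL (ι ⊕ ι) K) : M2ι) *ᵥ ·) h4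
            simp only [Matrix.mulVec_mulVec, ← Units.val_mul, inv_mul_cancel, Units.val_one,
              Matrix.one_mulVec, Matrix.mulVec_zero] at h5
            simpa using congrFun h5 (Sum.inr i)
          · rw [hm, Units.val_mul, Matrix.mulVecLin_mul, Submodule.map_comp, hB]
            refine le_antisymm ?_ fun v hv => ?_
            · rintro _ ⟨v, hv, rfl⟩
              rw [Matrix.mulVecLin_apply, Units.val_mul, ← Matrix.mulVec_mulVec, sw_mulVec]
              exact blockD_fix_sB a b (mem_sB.2 fun j => mem_sA.1 hv j)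
            · refine ⟨((sw : GL (ι ⊕ ι) K) : M2ι) *ᵥ (((blockD (a⁻¹, b⁻¹) : GL (ι ⊕ ι) K) : M2ι) *ᵥ v),
                ?_, ?_⟩
              · rw [sw_mulVec]
                exact mem_sA.2 fun j => mem_sB.1 (blockD_fix_sB a⁻¹ b⁻¹ hv) j
              · rw [Matrix.mulVecLin_apply, Matrix.mulVec_mulVec, Matrix.mulVec_mulVec, ← Units.val_mul,
                  ← Units.val_mul, mul_assoc (blockD (a, b)), sw_mul_sw, mul_one, ← map_mul,
                  show (a, b) * (a⁻¹, b⁻¹) = ((1 : GL ι K × GL ι K)) by simp, map_one, Units.val_one,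
                  Matrix.one_mulVec]
        · exact absurd (Submodule.map_injective_of_injective (f := Matrix.mulVecLin (n : M2ι))
            (fun a b h => by
              have h' := congrArg (((n⁻¹ : GL (ι ⊕ ι) K) : M2ι) *ᵥ ·) h
              simpa [Matrix.mulVec_mulVec, ← Units.val_mul] using h') (hA.trans hB.symm)) hAB
    have hdiag : ∀ g : GL (ι ⊕ ι) K,
        (sA : Submodule K (ι ⊕ ι → K)).map (Matrix.mulVecLin (g : M2ι)) = sA →
        (sB : Submodule K (ι ⊕ ι → K)).map (Matrix.mulVecLin (g : M2ι)) = sB →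
        (g : M2ι) = fromBlocks (g : M2ι).toBlocks₁₁ 0 0 (g : M2ι).toBlocks₂₂ := by
      intro g hA hB
      ext (i | i) (j | j)
      · rfl
      · have : (g : M2ι) *ᵥ Pi.single (Sum.inr j) 1 ∈ (sB : Submodule K (ι ⊕ ι → K)) :=
          hB ▸ ⟨_, mem_sB.2 fun k => by simp, rfl⟩
        simpa using mem_sB.1 this i
      · have : (g : M2ι) *ᵥ Pi.single (Sum.inl j) 1 ∈ (sA : Submodule K (ι ⊕ ι → K)) :=
          hA ▸ ⟨_, mem_sA.2 fun k => by simp, rfl⟩
        simpa using mem_sA.1 this i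
      · rfl
    have hinvm : ∀ C : Submodule K (ι ⊕ ι → K), C.map (Matrix.mulVecLin (m : M2ι)) = C →
        C.map (Matrix.mulVecLin ((m⁻¹ : GL (ι ⊕ ι) K) : M2ι)) = C := by
      intro C hC
      conv_lhs => rw [← hC]
      rw [← Submodule.map_comp, ← Matrix.mulVecLin_mul, ← Units.val_mul, inv_mul_cancel, Units.val_one,
        Matrix.mulVecLin_one, Submodule.map_id]
    have hm1 := hdiag m h1 h2
    have hm2 := hdiag m⁻¹ (hinvm _ h1) (hinvm _ h2)
    have hmm : (m : M2ι) * ((m⁻¹ : GL (ι ⊕ ι) K) : M2ι) = 1 := Units.mul_inv m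
    have hmm' : ((m⁻¹ : GL (ι ⊕ ι) K) : M2ι) * (m : M2ι) = 1 := Units.inv_mul m
    rw [hm1, hm2, fromBlocks_multiply, ← fromBlocks_one, fromBlocks_inj] at hmm hmm'
    simp only [Matrix.mul_zero, Matrix.zero_mul, add_zero, zero_add] at hmm hmm'
    let a : GL ι K := ⟨_, _, hmm.1, hmm'.1⟩
    let b : GL ι K := ⟨_, _, hmm.2.2.2, hmm'.2.2.2⟩
    refine ⟨e⁻¹, inv_mem he, a, b, ?_⟩
    rw [show n = e⁻¹ * m by rw [hm, inv_mul_cancel_left]]
    exact congrArg _ (Units.ext hm1)
  obtain ⟨a, b, rfl⟩ := heD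
  have heI : e ∈ Iso Q σ (ι ⊕ ι) := by
    obtain ⟨p, hp, r, hr, rfl | rfl⟩ := he
    · exact blockD_mem_Iso.2 ⟨T.le hp, T.le hr⟩
    · exact mul_mem (blockD_mem_Iso.2 ⟨T.le hp, T.le hr⟩) sw_mem_Iso
  have hab : blockD (a, b) ∈ Iso Q σ (ι ⊕ ι) := by
    have := mul_mem (inv_mem heI) hn
    rwa [inv_mul_cancel_left] at this
  have hab' : ∀ x ∈ dbl R, (x : M2ι).det = 1 → blockD (a, b) * x * (blockD (a, b))⁻¹ ∈ dbl R := by
    intro x hx hd
    have := mul_mem (mul_mem (inv_mem he) (hnorm x hx hd)) he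
    convert this using 1
    group
  obtain ⟨haI, hbI⟩ := blockD_mem_Iso.1 hab
  have hcomp : ∀ x ∈ R, a * x * a⁻¹ ∈ R ∧ b * x⁻¹ * b⁻¹ ∈ R := by
    intro x hx
    have := hab' _ (blockD_mem_dbl hx (inv_mem hx)) (by rw [det_blockD, det_mul_inv_self])
    rw [← map_inv, ← map_mul, ← map_mul] at this
    exact of_blockD_mem_dbl this
  obtain ⟨r, hr, l, hl⟩ := T.norm a haI fun x hx => (hcomp x hx).1
  obtain ⟨r', hr', m, hm⟩ := T.norm b hbI fun x hx => by simpa using (hcomp x⁻¹ (inv_mem hx)).2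
  subst hl hm
  have hlm : ∀ x ∈ dbl R, (x : M2ι).det = 1 →
      blockD (scal l, scal m) * x * (blockD (scal l, scal m))⁻¹ ∈ dbl R := by
    intro x hx hd
    have := mul_mem (mul_mem (inv_mem (blockD_mem_dbl hr hr')) (hab' x hx hd)) (blockD_mem_dbl hr hr')
    have e : blockD (r * scal l, r' * scal m) = blockD (r, r') * blockD ((scal l : GL ι K), scal m) := by
      rw [← map_mul]; rfl
    rw [e] at this
    convert this using 1
    group
  have hq := mul_mem (hlm sw sw_mem_dbl hswdet) (inv_mem (sw_mem_dbl (R := R)))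
  have e2 : blockD ((scal l : GL ι K), scal m) * sw * (blockD ((scal l : GL ι K), scal m))⁻¹ * sw⁻¹ =
      blockD (scal (l * m⁻¹), scal (m * l⁻¹)) := by
    rw [← map_inv, Prod.inv_mk, mul_assoc (blockD _) sw, sw_blockD, sw_inv, mul_assoc, mul_assoc,
      sw_mul_sw, mul_one, ← map_mul]
    simp
  rw [e2] at hq
  refine ⟨e * (blockD (r, r') * blockD (1, scal (m * l⁻¹))),
    mul_mem he (mul_mem (blockD_mem_dbl hr hr') (blockD_mem_dbl (one_mem _) (of_blockD_mem_dbl hq).2)), l, ?_⟩
  have e3 : (scal l : GL (ι ⊕ ι) K) = blockD (scal l, scal l) := by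
    refine Units.ext ?_
    rw [blockD_val, scal_val, scal_val]
    ext (i | i) (j | j) <;> simp [Matrix.diagonal_apply]
  rw [e3, mul_assoc, mul_assoc, ← map_mul, ← map_mul]
  simp

/-- the doubling step -/
theorem Tower.double {Q : Prop} {σ : K →+* K} {R : Subgroup (GL ι K)} (T : Tower Q σ R) :
    Tower Q σ (dbl R) where
  even := by rw [Fintype.card_sum]; exact T.even.add T.even
  ne := by haveI := T.ne; infer_instance
  pgroup := by
    rintro ⟨_, a, ha, b, hb, rfl | rfl⟩
    · obtain ⟨k, hk⟩ := T.pgroup ⟨a, ha⟩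
      obtain ⟨l, hl⟩ := T.pgroup ⟨b, hb⟩
      refine ⟨k + l, Subtype.ext ?_⟩
      have hk' : a ^ 2 ^ k = 1 := congrArg Subtype.val hk
      have hl' : b ^ 2 ^ l = 1 := congrArg Subtype.val hl
      show blockD (a, b) ^ 2 ^ (k + l) = 1
      rw [← map_pow, Prod.pow_mk, pow_add, pow_mul a, hk', one_pow, mul_comm, pow_mul b, hl', one_pow]
      exact map_one _
    · obtain ⟨k, hk⟩ := T.pgroup ⟨a * b, mul_mem ha hb⟩
      obtain ⟨l, hl⟩ := T.pgroup ⟨b * a, mul_mem hb ha⟩
      have hk' : (a * b) ^ 2 ^ k = 1 := congrArg Subtype.val hk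
      have hl' : (b * a) ^ 2 ^ l = 1 := congrArg Subtype.val hl
      refine ⟨1 + (k + l), Subtype.ext ?_⟩
      show (blockD (a, b) * sw) ^ 2 ^ (1 + (k + l)) = 1
      have e : (blockD (a, b) * sw) ^ 2 = blockD (a * b, b * a) := by
        rw [pow_two, mul_assoc, ← mul_assoc sw, sw_blockD, mul_assoc (blockD (b, a)), sw_mul_sw, mul_one,
          ← map_mul]
        rfl
      rw [pow_add, pow_one, pow_mul, e, ← map_pow, Prod.pow_mk, pow_add, pow_mul (a * b), hk', one_pow,
        mul_comm, pow_mul (b * a), hl', one_pow]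
      exact map_one _
  le := by
    rintro _ ⟨a, ha, b, hb, rfl | rfl⟩
    · exact blockD_mem_Iso.2 ⟨T.le ha, T.le hb⟩
    · exact mul_mem (blockD_mem_Iso.2 ⟨T.le ha, T.le hb⟩) sw_mem_Iso
  norm := fun n hn h => T.normP hn fun x hx _ => h x hx
  scal_mem := fun c hc hk => by
    have e3 : (scal c : GL (ι ⊕ ι) K) = blockD (scal c, scal c) := by
      refine Units.ext ?_
      rw [blockD_val, scal_val, scal_val]
      ext (i | i) (j | j) <;> simp [Matrix.diagonal_apply]
    rw [e3] at hc ⊢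
    have := T.scal_mem c (blockD_mem_Iso.1 hc).1 hk
    exact blockD_mem_dbl this this
  irred := fun W hW => by
    obtain ⟨x1, hx1, x2, hx2, hd1, hd2, hne12⟩ := T.noncomm
    have hswdet := det_sw (K := K) T.even
    have hswW : ∀ v ∈ W, ((sw : GL (ι ⊕ ι) K) : M2ι) *ᵥ v ∈ W := hW sw sw_mem_dbl hswdet
    have hc : x1 * x2 * x1⁻¹ * x2⁻¹ ≠ 1 := fun h => hne12 (by
      rw [mul_inv_eq_one, mul_inv_eq_iff_eq_mul] at h
      exact h)
    obtain ⟨i⟩ := T.ne
    rcases inv_sub_cases T.irred (W := W)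
      (fun x hx hd => hW _ (blockD_mem_dbl hx (inv_mem hx)) (by rw [det_blockD, det_mul_inv_self])) hc
      (hW _ (blockD_mem_dbl (mul_mem (mul_mem (mul_mem hx1 hx2) (inv_mem hx1)) (inv_mem hx2)) (one_mem _)) (by
        rw [det_blockD, Units.val_one, det_one, mul_one, Units.val_mul, Units.val_mul, Units.val_mul, det_mul,
          det_mul, det_mul, hd1, hd2, det_inv_eq_one hd1, det_inv_eq_one hd2]
        simp))
      with h | h | h | h
    · exact Or.inl h
    · exfalso
      have h1 : (Pi.single (Sum.inl i) 1 : ι ⊕ ι → K) ∈ W := h ▸ mem_sA.2 fun j => by simp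
      have h2 := hswW _ h1
      rw [h, sw_mulVec, mem_sA] at h2
      simpa using h2 i
    · exfalso
      have h1 : (Pi.single (Sum.inr i) 1 : ι ⊕ ι → K) ∈ W := h ▸ mem_sB.2 fun j => by simp
      have h2 := hswW _ h1
      rw [h, sw_mulVec, mem_sB] at h2
      simpa using h2 i
    · exact Or.inr h
  noncomm := by
    obtain ⟨x1, hx1, x2, hx2, hd1, hd2, hne12⟩ := T.noncomm
    refine ⟨blockD (x1, 1), blockD_mem_dbl hx1 (one_mem _), blockD (x2, 1), blockD_mem_dbl hx2 (one_mem _),
      by rw [det_blockD, hd1, Units.val_one, det_one, mul_one],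
      by rw [det_blockD, hd2, Units.val_one, det_one, mul_one], fun h => hne12 ?_⟩
    rw [← map_mul, ← map_mul] at h
    exact (blockD_inj h).1

end CfsgLib.Geometry.Pron
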