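import Mathlib

/-!
Normalisers of iterated wreath products of two-groups in linear and unitary groups: the doubling step.
-/

set_option autoImplicit false

namespace CfsgLib.Geometry.Pron

open Matrix

universe u v

variable {K : Type u} [Field K] {ι : Type v} [Fintype ι] [DecidableEq ι]

/-- the isometries of the form with Gram matrix `1`, or all matrices -/
def Iso (Q : Prop) (σ : K →+* K) (ι : Type v) [Fintype ι] [DecidableEq ι] : Subgroup (GL ι K) where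
  carrier := {g | Q → ((g : Matrix ι ι K).map σ)ᵀ * (g : Matrix ι ι K) = 1}
  one_mem' := fun _ => by simp
  mul_mem' {a b} ha hb := fun hQ => by
    rw [Units.val_mul, Matrix.map_mul, Matrix.transpose_mul, mul_assoc, ← mul_assoc _ (a : Matrix ι ι K),
      ha hQ, one_mul, hb hQ]
  inv_mem' {a} ha := fun hQ => by
    have h1 : ((a : Matrix ι ι K).map σ)ᵀ = ((a⁻¹ : GL ι K) : Matrix ι ι K) :=
      calc ((a : Matrix ι ι K).map σ)ᵀ
          = ((a : Matrix ι ι K).map σ)ᵀ * ((a : Matrix ι ι K) * ((a⁻¹ : GL ι K) : Matrix ι ι K)) := by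
            rw [Units.mul_inv, mul_one]
        _ = _ := by rw [← mul_assoc, ha hQ, one_mul]
    rw [← h1]
    rw [← Matrix.transpose_one, ← Matrix.map_one σ (map_zero σ) (map_one σ), ← Units.mul_inv a,
      Matrix.map_mul, Matrix.transpose_mul, h1]

theorem mem_Iso {Q : Prop} {σ : K →+* K} {g : GL ι K} :
    g ∈ Iso Q σ ι ↔ (Q → ((g : Matrix ι ι K).map σ)ᵀ * (g : Matrix ι ι K) = 1) := Iff.rfl

/-- scalar matrices -/
def scal : Kˣ →* GL ι K := Units.map (Matrix.scalar ι : K →+* Matrix ι ι K).toMonoidHom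

theorem scal_val (c : Kˣ) : ((scal c : GL ι K) : Matrix ι ι K) = Matrix.scalar ι (c : K) := rfl

theorem scal_comm (c : Kˣ) (g : GL ι K) : scal c * g = g * scal c :=
  Units.ext (Matrix.scalar_commute (c : K) (fun r => mul_comm _ r) _).eq

/-- the data kept along the doubling -/
structure Tower (Q : Prop) (σ : K →+* K) (R : Subgroup (GL ι K)) : Prop where
  even : Even (Fintype.card ι)
  ne : Nonempty ι
  pgroup : IsPGroup 2 R
  le : R ≤ Iso Q σ ι
  norm : ∀ n ∈ Iso Q σ ι, (∀ x ∈ R, n * x * n⁻¹ ∈ R) → ∃ r ∈ R, ∃ c : Kˣ, n = r * scal c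
  scal_mem : ∀ c : Kˣ, scal c ∈ Iso Q σ ι → (∃ k : ℕ, c ^ 2 ^ k = 1) → scal c ∈ R
  irred : ∀ W : Submodule K (ι → K), (∀ x ∈ R, (x : Matrix ι ι K).det = 1 → ∀ v ∈ W,
    (x : Matrix ι ι K) *ᵥ v ∈ W) → W = ⊥ ∨ W = ⊤
  noncomm : ∃ x ∈ R, ∃ y ∈ R, (x : Matrix ι ι K).det = 1 ∧ (y : Matrix ι ι K).det = 1 ∧ x * y ≠ y * x

/-- block diagonal elements -/
def blockD : GL ι K × GL ι K →* GL (ι ⊕ ι) K :=
  ({ toFun := fun p => fromBlocks (p.1 : Matrix ι ι K) 0 0 (p.2 : Matrix ι ι K)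
     map_one' := by simp
     map_mul' := fun a b => by simp [fromBlocks_multiply] } :
    GL ι K × GL ι K →* Matrix (ι ⊕ ι) (ι ⊕ ι) K).toHomUnits

theorem blockD_val (a b : GL ι K) : ((blockD (a, b) : GL (ι ⊕ ι) K) : Matrix (ι ⊕ ι) (ι ⊕ ι) K) =
    fromBlocks (a : Matrix ι ι K) 0 0 (b : Matrix ι ι K) := rfl

theorem blockD_inj {a b c d : GL ι K} (h : blockD (a, b) = blockD (c, d)) : a = c ∧ b = d := by
  have h' := congrArg (fun g : GL (ι ⊕ ι) K => (g : Matrix (ι ⊕ ι) (ι ⊕ ι) K)) h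
  simp only [blockD_val] at h'
  obtain ⟨h1, -, -, h4⟩ := fromBlocks_inj.1 h'
  exact ⟨Units.ext h1, Units.ext h4⟩

theorem det_blockD (a b : GL ι K) : ((blockD (a, b) : GL (ι ⊕ ι) K) : Matrix (ι ⊕ ι) (ι ⊕ ι) K).det =
    (a : Matrix ι ι K).det * (b : Matrix ι ι K).det := by
  rw [blockD_val, det_fromBlocks_zero₁₂]

theorem blockD_mem_Iso {Q : Prop} {σ : K →+* K} {a b : GL ι K} :
    blockD (a, b) ∈ Iso Q σ (ι ⊕ ι) ↔ a ∈ Iso Q σ ι ∧ b ∈ Iso Q σ ι := by
  simp only [mem_Iso, blockD_val, fromBlocks_map, fromBlocks_transpose, fromBlocks_multiply,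
    Matrix.map_zero, map_zero, Matrix.transpose_zero, Matrix.mul_zero, Matrix.zero_mul, add_zero, zero_add]
  constructor
  · intro h
    refine ⟨fun hQ => ?_, fun hQ => ?_⟩
    · have := h hQ
      rw [← fromBlocks_one, fromBlocks_inj] at this
      exact this.1
    · have := h hQ
      rw [← fromBlocks_one, fromBlocks_inj] at this
      exact this.2.2.2
  · rintro ⟨h1, h2⟩ hQ
    rw [h1 hQ, h2 hQ, fromBlocks_one]

/-- the swap of the blocks -/
def sw : GL (ι ⊕ ι) K where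
  val := fromBlocks 0 1 1 0
  inv := fromBlocks 0 1 1 0
  val_inv := by simp [fromBlocks_multiply]
  inv_val := by simp [fromBlocks_multiply]

theorem sw_val : ((sw : GL (ι ⊕ ι) K) : Matrix (ι ⊕ ι) (ι ⊕ ι) K) = fromBlocks 0 1 1 0 := rfl

theorem sw_mul_sw : (sw : GL (ι ⊕ ι) K) * sw = 1 :=
  Units.ext (by rw [Units.val_mul, sw_val, Units.val_one]; simp [fromBlocks_multiply])

theorem sw_inv : (sw : GL (ι ⊕ ι) K)⁻¹ = sw := inv_eq_of_mul_eq_one_right sw_mul_sw

theorem sw_blockD (a b : GL ι K) : sw * blockD (a, b) = blockD (b, a) * sw :=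
  Units.ext (by rw [Units.val_mul, Units.val_mul, sw_val, blockD_val, blockD_val]; simp [fromBlocks_multiply])

theorem sw_mem_Iso {Q : Prop} {σ : K →+* K} : sw ∈ Iso Q σ (ι ⊕ ι) := fun _ => by
  simp [sw_val, fromBlocks_map, fromBlocks_transpose, fromBlocks_multiply]

theorem det_sw (h : Even (Fintype.card ι)) :
    ((sw : GL (ι ⊕ ι) K) : Matrix (ι ⊕ ι) (ι ⊕ ι) K).det = 1 := by
  have e : fromBlocks (0 : Matrix ι ι K) (1 : Matrix ι ι K) (1 : Matrix ι ι K) (0 : Matrix ι ι K) =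
      fromBlocks 1 1 0 1 * fromBlocks 1 0 (-1) 1 * fromBlocks 1 1 0 1 * fromBlocks (-1) 0 0 1 := by
    simp [fromBlocks_multiply]
  rw [sw_val, e, det_mul, det_mul, det_mul, det_fromBlocks_zero₂₁, det_fromBlocks_zero₁₂,
    det_fromBlocks_zero₁₂, det_neg, det_one, h.neg_one_pow]
  simp

theorem blockD_ne_sw [Nonempty ι] (a b c d : GL ι K) : blockD (a, b) ≠ blockD (c, d) * sw := by
  intro h
  have h' := congrArg (fun g : GL (ι ⊕ ι) K => (g : Matrix (ι ⊕ ι) (ι ⊕ ι) K)) h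
  simp only [Units.val_mul, blockD_val, sw_val, fromBlocks_multiply] at h'
  have h1 : (a : Matrix ι ι K) = 0 := by simpa using (fromBlocks_inj.1 h').1
  exact (Matrix.GeneralLinearGroup.det a).ne_zero (by
    show (a : Matrix ι ι K).det = 0
    rw [h1, det_zero])

/-- the wreath product with a group of order two -/
def dbl (R : Subgroup (GL ι K)) : Subgroup (GL (ι ⊕ ι) K) where
  carrier := {g | ∃ a ∈ R, ∃ b ∈ R, g = blockD (a, b) ∨ g = blockD (a, b) * sw}
  one_mem' := ⟨1, one_mem _, 1, one_mem _, Or.inl (map_one _).symm⟩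
  mul_mem' := by
    rintro _ _ ⟨a, ha, b, hb, rfl | rfl⟩ ⟨c, hc, d, hd, rfl | rfl⟩
    · exact ⟨_, mul_mem ha hc, _, mul_mem hb hd, Or.inl (map_mul _ _ _).symm⟩
    · exact ⟨_, mul_mem ha hc, _, mul_mem hb hd, Or.inr (by rw [← mul_assoc, ← map_mul]; rfl)⟩
    · refine ⟨_, mul_mem ha hd, _, mul_mem hb hc, Or.inr ?_⟩
      rw [mul_assoc, sw_blockD, ← mul_assoc, ← map_mul]; rfl
    · refine ⟨_, mul_mem ha hd, _, mul_mem hb hc, Or.inl ?_⟩
      rw [mul_assoc, ← mul_assoc sw, sw_blockD, mul_assoc (blockD (d, c)), sw_mul_sw, mul_one, ← map_mul]; rfl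
  inv_mem' := by
    rintro _ ⟨a, ha, b, hb, rfl | rfl⟩
    · exact ⟨_, inv_mem ha, _, inv_mem hb, Or.inl (map_inv _ _).symm⟩
    · refine ⟨_, inv_mem hb, _, inv_mem ha, Or.inr ?_⟩
      rw [_root_.mul_inv_rev, sw_inv, ← map_inv, Prod.inv_mk, sw_blockD]

theorem blockD_mem_dbl {R : Subgroup (GL ι K)} {a b : GL ι K} (ha : a ∈ R) (hb : b ∈ R) :
    blockD (a, b) ∈ dbl R := ⟨a, ha, b, hb, Or.inl rfl⟩

theorem sw_mem_dbl {R : Subgroup (GL ι K)} : sw ∈ dbl R :=
  ⟨1, one_mem _, 1, one_mem _, Or.inr (by rw [show ((1, 1) : GL ι K × GL ι K) = 1 from rfl, map_one, one_mul])⟩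

theorem of_blockD_mem_dbl [Nonempty ι] {R : Subgroup (GL ι K)} {a b : GL ι K}
    (h : blockD (a, b) ∈ dbl R) : a ∈ R ∧ b ∈ R := by
  obtain ⟨c, hc, d, hd, e | e⟩ := h
  · obtain ⟨rfl, rfl⟩ := blockD_inj e
    exact ⟨hc, hd⟩
  · exact absurd e (blockD_ne_sw _ _ _ _)

theorem commutator_blockD {R : Subgroup (GL ι K)} {x y : GL (ι ⊕ ι) K} (hx : x ∈ dbl R) (hy : y ∈ dbl R) :
    ∃ a b, x * y * x⁻¹ * y⁻¹ = blockD (a, b) := by
  have par : ∀ g ∈ dbl R, ∃ e : GL (ι ⊕ ι) K, (e = 1 ∨ e = sw) ∧ ∃ a b, g = blockD (a, b) * e := by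
    rintro _ ⟨a, -, b, -, rfl | rfl⟩
    · exact ⟨1, Or.inl rfl, a, b, (mul_one _).symm⟩
    · exact ⟨sw, Or.inr rfl, a, b, rfl⟩
  obtain ⟨e, he, a, b, rfl⟩ := par x hx
  obtain ⟨f, hf, c, d, rfl⟩ := par y hy
  have mv : ∀ (e : GL (ι ⊕ ι) K), (e = 1 ∨ e = sw) → ∀ p : GL ι K × GL ι K, ∃ p' : GL ι K × GL ι K,
      e * blockD p = blockD p' * e := by
    rintro e (rfl | rfl) p
    · exact ⟨p, by simp⟩
    · exact ⟨(p.2, p.1), sw_blockD _ _⟩
  obtain ⟨p1, hp1⟩ := mv e he (c, d)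
  have hef : e * f = f * e := by rcases he with rfl | rfl <;> rcases hf with rfl | rfl <;> simp
  obtain ⟨p2, hp2⟩ := mv f hf (a, b)⁻¹
  refine ⟨((a, b) * p1 * p2 * (c, d)⁻¹).1, ((a, b) * p1 * p2 * (c, d)⁻¹).2, ?_⟩
  rw [Prod.mk.eta, map_mul, map_mul, map_mul]
  have h2 : blockD p2 = f * blockD (a, b)⁻¹ * f⁻¹ := by rw [hp2]; group
  have h1 : blockD p1 = e * blockD (c, d) * e⁻¹ := by rw [hp1]; group
  rw [h1, h2, map_inv, map_inv]
  calc blockD (a, b) * e * (blockD (c, d) * f) * (blockD (a, b) * e)⁻¹ * (blockD (c, d) * f)⁻¹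
      = blockD (a, b) * (e * blockD (c, d) * e⁻¹) * (e * f) * e⁻¹ * (blockD (a, b))⁻¹ * f⁻¹ *
          (blockD (c, d))⁻¹ := by group
    _ = _ := by rw [hef]; group

/-- the first block of coordinates -/
def sA : Submodule K (ι ⊕ ι → K) := LinearMap.ker (LinearMap.funLeft K K (Sum.inr : ι → ι ⊕ ι))

/-- the second block of coordinates -/
def sB : Submodule K (ι ⊕ ι → K) := LinearMap.ker (LinearMap.funLeft K K (Sum.inl : ι → ι ⊕ ι))

theorem mem_sA {v : ι ⊕ ι → K} : v ∈ sA ↔ ∀ i, v (Sum.inr i) = 0 := by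
  simp [sA, LinearMap.mem_ker, funext_iff]

theorem mem_sB {v : ι ⊕ ι → K} : v ∈ sB ↔ ∀ i, v (Sum.inl i) = 0 := by
  simp [sB, LinearMap.mem_ker, funext_iff]

theorem blockD_mulVec (a b : GL ι K) (v w : ι → K) :
    ((blockD (a, b) : GL (ι ⊕ ι) K) : Matrix (ι ⊕ ι) (ι ⊕ ι) K) *ᵥ Sum.elim v w =
      Sum.elim ((a : Matrix ι ι K) *ᵥ v) ((b : Matrix ι ι K) *ᵥ w) := by
  rw [blockD_val, fromBlocks_mulVec]
  simp

theorem blockD_fix_sA (a b : GL ι K) {v : ι ⊕ ι → K} (hv : v ∈ sA) :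
    ((blockD (a, b) : GL (ι ⊕ ι) K) : Matrix (ι ⊕ ι) (ι ⊕ ι) K) *ᵥ v ∈ sA := by
  rw [← Sum.elim_comp_inl_inr v, blockD_mulVec, mem_sA]
  intro i
  rw [Sum.elim_inr, show v ∘ Sum.inr = 0 from funext fun i => mem_sA.1 hv i, Matrix.mulVec_zero]
  rfl

theorem blockD_fix_sB (a b : GL ι K) {v : ι ⊕ ι → K} (hv : v ∈ sB) :
    ((blockD (a, b) : GL (ι ⊕ ι) K) : Matrix (ι ⊕ ι) (ι ⊕ ι) K) *ᵥ v ∈ sB := by
  rw [← Sum.elim_comp_inl_inr v, blockD_mulVec, mem_sB]
  intro i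
  rw [Sum.elim_inl, show v ∘ Sum.inl = 0 from funext fun i => mem_sB.1 hv i, Matrix.mulVec_zero]
  rfl

theorem sw_mulVec (v : ι ⊕ ι → K) : ((sw : GL (ι ⊕ ι) K) : Matrix (ι ⊕ ι) (ι ⊕ ι) K) *ᵥ v =
    Sum.elim (v ∘ Sum.inr) (v ∘ Sum.inl) := by
  rw [sw_val, fromBlocks_mulVec]
  simp

/-- invariant subspaces of enough pairs -/
theorem inv_sub_cases {R : Subgroup (GL ι K)}
    (hirr : ∀ W : Submodule K (ι → K), (∀ x ∈ R, (x : Matrix ι ι K).det = 1 → ∀ v ∈ W,
      (x : Matrix ι ι K) *ᵥ v ∈ W) → W = ⊥ ∨ W = ⊤)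
    {W : Submodule K (ι ⊕ ι → K)}
    (h1 : ∀ x ∈ R, (x : Matrix ι ι K).det = 1 → ∀ v ∈ W,
      ((blockD (x, x⁻¹) : GL (ι ⊕ ι) K) : Matrix (ι ⊕ ι) (ι ⊕ ι) K) *ᵥ v ∈ W)
    {c : GL ι K} (hc : c ≠ 1)
    (h3 : ∀ v ∈ W, ((blockD (c, 1) : GL (ι ⊕ ι) K) : Matrix (ι ⊕ ι) (ι ⊕ ι) K) *ᵥ v ∈ W) :
    W = ⊥ ∨ W = sA ∨ W = sB ∨ W = ⊤ := by
  have hdinv : ∀ x : GL ι K, (x : Matrix ι ι K).det = 1 → ((x⁻¹ : GL ι K) : Matrix ι ι K).det = 1 := by
    intro x hx
    have := congrArg Matrix.det (Units.mul_inv x)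
    rwa [det_mul, hx, one_mul, det_one] at this
  let WA : Submodule K (ι → K) :=
    { carrier := {a | Sum.elim a (0 : ι → K) ∈ W}
      zero_mem' := by
        show Sum.elim (0 : ι → K) (0 : ι → K) ∈ W
        simp
      add_mem' := fun {a b} ha hb => by
        show Sum.elim (a + b) (0 : ι → K) ∈ W
        convert W.add_mem ha hb using 1
        ext (i | i) <;> simp
      smul_mem' := fun r a ha => by
        show Sum.elim (r • a) (0 : ι → K) ∈ W
        convert W.smul_mem r ha using 1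
        ext (i | i) <;> simp }
  let WB : Submodule K (ι → K) :=
    { carrier := {a | Sum.elim (0 : ι → K) a ∈ W}
      zero_mem' := by
        show Sum.elim (0 : ι → K) (0 : ι → K) ∈ W
        simp
      add_mem' := fun {a b} ha hb => by
        show Sum.elim (0 : ι → K) (a + b) ∈ W
        convert W.add_mem ha hb using 1
        ext (i | i) <;> simp
      smul_mem' := fun r a ha => by
        show Sum.elim (0 : ι → K) (r • a) ∈ W
        convert W.smul_mem r ha using 1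
        ext (i | i) <;> simp }
  have hA := hirr WA fun x hx hd a ha => by
    have := h1 x hx hd _ ha
    rw [blockD_mulVec, Matrix.mulVec_zero] at this
    exact this
  have hB := hirr WB fun x hx hd a ha => by
    have := h1 x⁻¹ (inv_mem hx) (hdinv x hd) _ ha
    rw [blockD_mulVec, Matrix.mulVec_zero, inv_inv] at this
    exact this
  rcases hA with hA | hA <;> rcases hB with hB | hB
  · left
    let WP : Submodule K (ι → K) := W.map (LinearMap.funLeft K K (Sum.inl : ι → ι ⊕ ι))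
    have hP := hirr WP fun x hx hd a ha => by
      obtain ⟨v, hv, rfl⟩ := ha
      refine ⟨_, h1 x hx hd v hv, ?_⟩
      rw [← Sum.elim_comp_inl_inr v, blockD_mulVec]
      rfl
    rw [eq_bot_iff]
    intro v hv
    rcases hP with hP | hP
    · have hl : v ∘ Sum.inl = 0 := by
        have : LinearMap.funLeft K K (Sum.inl : ι → ι ⊕ ι) v ∈ WP := ⟨v, hv, rfl⟩
        rw [hP, Submodule.mem_bot] at this
        exact this
      have : v ∘ Sum.inr ∈ WB := by
        show Sum.elim (0 : ι → K) (v ∘ Sum.inr) ∈ W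
        rwa [← hl, Sum.elim_comp_inl_inr]
      rw [hB, Submodule.mem_bot] at this
      rw [Submodule.mem_bot, ← Sum.elim_comp_inl_inr v, hl, this]
      simp
    · exfalso
      refine hc (Units.ext (Matrix.ext_iff_mulVec.2 fun a => ?_))
      obtain ⟨w, hw, rfl⟩ : a ∈ WP := hP ▸ Submodule.mem_top
      have h4 := W.sub_mem (h3 w hw) hw
      have : (c : Matrix ι ι K) *ᵥ (w ∘ Sum.inl) - w ∘ Sum.inl ∈ WA := by
        show Sum.elim _ (0 : ι → K) ∈ W
        convert h4 using 1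
        conv_rhs => rw [← Sum.elim_comp_inl_inr w, blockD_mulVec, Units.val_one, Matrix.one_mulVec]
        ext (i | i) <;> simp
      rw [hA, Submodule.mem_bot, sub_eq_zero] at this
      rw [Units.val_one, Matrix.one_mulVec]
      exact this
  · right; right; left
    refine le_antisymm (fun v hv => mem_sB.2 ?_) fun v hv => ?_
    · have h5 : Sum.elim (0 : ι → K) (v ∘ Sum.inr) ∈ W := by
        show v ∘ Sum.inr ∈ WB
        rw [hB]; trivial
      have : v ∘ Sum.inl ∈ WA := by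
        show Sum.elim (v ∘ Sum.inl) (0 : ι → K) ∈ W
        convert W.sub_mem hv h5 using 1
        ext (i | i) <;> simp
      rw [hA, Submodule.mem_bot] at this
      exact fun i => congrFun this i
    · rw [← Sum.elim_comp_inl_inr v, show v ∘ Sum.inl = 0 from funext fun i => mem_sB.1 hv i]
      show v ∘ Sum.inr ∈ WB
      rw [hB]; trivial
  · right; left
    refine le_antisymm (fun v hv => mem_sA.2 ?_) fun v hv => ?_
    · have h5 : Sum.elim (v ∘ Sum.inl) (0 : ι → K) ∈ W := by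
        show v ∘ Sum.inl ∈ WA
        rw [hA]; trivial
      have : v ∘ Sum.inr ∈ WB := by
        show Sum.elim (0 : ι → K) (v ∘ Sum.inr) ∈ W
        convert W.sub_mem hv h5 using 1
        ext (i | i) <;> simp
      rw [hB, Submodule.mem_bot] at this
      exact fun i => congrFun this i
    · rw [← Sum.elim_comp_inl_inr v, show v ∘ Sum.inr = 0 from funext fun i => mem_sA.1 hv i]
      show v ∘ Sum.inl ∈ WA
      rw [hA]; trivial
  · right; right; right
    rw [eq_top_iff]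
    intro v _
    have h5 : Sum.elim (v ∘ Sum.inl) (0 : ι → K) ∈ W := by
      show v ∘ Sum.inl ∈ WA
      rw [hA]; trivial
    have h6 : Sum.elim (0 : ι → K) (v ∘ Sum.inr) ∈ W := by
      show v ∘ Sum.inr ∈ WB
      rw [hB]; trivial
    convert W.add_mem h5 h6 using 1
    ext (i | i) <;> simp

end CfsgLib.Geometry.Pron
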